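import Cfsg.Agent.H136.TwF.Over
import Cfsg.Agent.H187.TwF4SQ

/-!
# The order of `M = ⟨X_odd⟩` in `²F₄(q)` (helper136, task 629)

The number of `M`-conjugates of `X_5` is `1 + q + q² + q³`; a primitive prime divisor `u` of `2^(12 a) - 1`, `q = 2 ^ a`,
does not divide `|N(M)|`.
-/

set_option autoImplicit false
set_option linter.unusedSectionVars false

namespace Cfsg.Agent.H136.TwF

open Cfsg.Agent.KFacts.TwF4 Cfsg.Agent.KFacts.TwF4.Full Cfsg.Agent.KFacts.TwF4.Arc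
open Cfsg.Agent.KFacts.TwF4.Inv Cfsg.Agent.KFacts.TwF4.SylU Cfsg.Agent.KFacts.TwF4.Perf
open Cfsg.Agent.SplitTwo Cfsg.Agent.SplitTwo.ZS Cfsg.Agent.TitsThree.RankTwoZ Cfsg.Agent.TitsThree.RankTwoRGD
open Cfsg.Agent.SplitTwo.RootSysZ
open Cfsg.Agent.H392.TwFFour
open Cfsg.Agent.Nodes.Reps (cj mem_cj conj_mem_cj cj_mul cj_cj_inv cj_inv_cj cj_mono cj_le_cj_iff cj_one cj_eq_of_mem)
open scoped commutatorElement

universe u

/-! ### orbits of subgroups -/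

section abs

variable {G : Type u} [Group G]

/-- the `A`-conjugates of `W` -/
def Orb (A W : Subgroup G) : Set (Subgroup G) := {Z | ∃ u ∈ A, Z = cj u W}

theorem mem_norm_iff {A : Subgroup G} {g : G} : g ∈ Subgroup.normalizer (A : Set G) ↔ cj g A = A := by
  rw [Subgroup.mem_normalizer_iff]
  constructor
  · intro h
    ext x
    rw [mem_cj, h (g⁻¹ * x * g)]
    have e : g * (g⁻¹ * x * g) * g⁻¹ = x := by group
    rw [e]
  · intro h x
    conv_rhs => rw [← h]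
    exact conj_mem_cj.symm

theorem card_Orb [Finite G] (A W : Subgroup G) :
    (Orb A W).ncard * Nat.card ↥(A ⊓ Subgroup.normalizer (W : Set G)) = Nat.card A := by
  let act : MulAction ↥A (Subgroup G) :=
    { smul := fun u Z => cj (u : G) Z
      one_smul := fun Z => cj_one Z
      mul_smul := fun u v Z => cj_mul (u : G) v Z }
  have h1 : Orb A W = MulAction.orbit ↥A W := by
    ext Z
    constructor
    · rintro ⟨u, hu, rfl⟩
      exact ⟨⟨u, hu⟩, rfl⟩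
    · rintro ⟨u, rfl⟩
      exact ⟨u.1, u.2, rfl⟩
  have h2 : Nat.card ↥(A ⊓ Subgroup.normalizer (W : Set G)) = Nat.card ↥(MulAction.stabilizer ↥A W) := by
    refine Nat.card_congr
      { toFun := fun x => ⟨⟨x.1, x.2.1⟩, mem_norm_iff.1 x.2.2⟩
        invFun := fun x => ⟨x.1.1, x.1.2, mem_norm_iff.2 x.2⟩
        left_inv := fun x => rfl
        right_inv := fun x => rfl }
  rw [h1, h2, ← MulAction.index_stabilizer]
  exact Subgroup.index_mul_card _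

theorem Orb_eq {A W W' : Subgroup G} {Z : Subgroup G} (h : Z ∈ Orb A W) (h' : Z ∈ Orb A W') : Orb A W = Orb A W' := by
  have key : ∀ W W' : Subgroup G, Z ∈ Orb A W → Z ∈ Orb A W' → Orb A W ⊆ Orb A W' := by
    rintro W W' ⟨a, ha, rfl⟩ ⟨b, hb, e⟩ _ ⟨c, hc, rfl⟩
    refine ⟨c * a⁻¹ * b, mul_mem (mul_mem hc (inv_mem ha)) hb, ?_⟩
    rw [cj_mul, cj_mul, ← e, cj_inv_cj]
  exact Set.Subset.antisymm (key _ _ h h') (key _ _ h' h)

theorem card_of_param {α : Type*} {f : α → G} (hf : Function.Injective f) {V : Subgroup G}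
    (h : ∀ g, g ∈ V ↔ ∃ x, f x = g) : Nat.card V = Nat.card α := by
  refine (Nat.card_congr (Equiv.ofBijective (fun x => (⟨f x, (h _).2 ⟨x, rfl⟩⟩ : V)) ⟨?_, ?_⟩)).symm
  · intro x y hxy
    exact hf (congrArg Subtype.val hxy)
  · rintro ⟨g, hg⟩
    obtain ⟨x, hx⟩ := (h g).1 hg
    exact ⟨x, Subtype.ext hx⟩

end abs

variable {F : Type*} [Field F] {σ : F →+* F} {G : Type u} [Group G] {S : Full σ G}

/-! ### root elements normalising root groups -/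

theorem X_ne {i j : ℤ} (h : (i : ZMod (2 * 8)) ≠ (j : ZMod (2 * 8))) {x : G} (hx : x ∈ S.XZ i) (hx' : x ∈ S.XZ j) :
    x = 1 := S.X_inf h hx hx'

/-- distance 6 -/
theorem dist_a {a : ℤ} {t : F} (h : S.o (a : ZMod 8) t ∈ Subgroup.normalizer (S.XZ (2 * a + 7) : Set G)) : t = 0 := by
  have hm : S.o ((a : ZMod 8) + 3) 1 ∈ S.XZ (2 * a + 7) := by
    have := S.o_mem (a + 3) (1 : F)
    push_cast at this
    rwa [show 2 * (a + 3) + 1 = 2 * a + 7 by ring] at this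
  have h1 := S.o_o3 (a : ZMod 8) t 1
  rw [mul_one, map_one, mul_one] at h1
  have h2 := (Subgroup.mem_normalizer_iff.1 (inv_mem h) _).1 hm
  rw [inv_inv] at h2
  have h3 : (S.o (a : ZMod 8) t)⁻¹ * S.o ((a : ZMod 8) + 3) 1 * S.o (a : ZMod 8) t *
      (S.o ((a : ZMod 8) + 1) (σ t) * S.o ((a : ZMod 8) + 2) t) = S.o ((a : ZMod 8) + 3) 1 := by
    calc _ = (S.o (a : ZMod 8) t)⁻¹ * (S.o ((a : ZMod 8) + 3) 1 * S.o (a : ZMod 8) t *
        S.o ((a : ZMod 8) + 1) (σ t) * S.o ((a : ZMod 8) + 2) t) := by group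
      _ = _ := by rw [← h1]; group
  have h4 : S.o ((a : ZMod 8) + 1) (σ t) * S.o ((a : ZMod 8) + 2) t ∈ S.XZ (2 * a + 7) := by
    have e : S.o ((a : ZMod 8) + 1) (σ t) * S.o ((a : ZMod 8) + 2) t =
        ((S.o (a : ZMod 8) t)⁻¹ * S.o ((a : ZMod 8) + 3) 1 * S.o (a : ZMod 8) t)⁻¹ * S.o ((a : ZMod 8) + 3) 1 :=
      eq_inv_mul_of_mul_eq h3
    rw [e]
    exact mul_mem (inv_mem h2) hm
  have m1 : S.o ((a : ZMod 8) + 1) (σ t) ∈ S.XZ (2 * a + 3) := by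
    have := S.o_mem (a + 1) (σ t)
    push_cast at this
    rwa [show 2 * (a + 1) + 1 = 2 * a + 3 by ring] at this
  have m2 : S.o ((a : ZMod 8) + 2) t ∈ S.XZ (2 * a + 5) := by
    have := S.o_mem (a + 2) t
    push_cast at this
    rwa [show 2 * (a + 2) + 1 = 2 * a + 5 by ring] at this
  have h5 := S.zsys8.inter' h4 (mul_mem (mem_J m1 (by omega) (by omega)) (mem_J m2 (by omega) (by omega)))
  have h6 : S.o ((a : ZMod 8) + 1) (σ t) = 1 := by
    refine S.zsys8.inter _ _ m1 ?_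
    rw [eq_inv_of_mul_eq_one_left h5]
    exact inv_mem (mem_J m2 (by omega) (by omega))
  exact (map_eq_zero σ).1 (S.o_eq_one h6)

theorem dist_b {a : ℤ} {t : F} (h : S.o ((a : ZMod 8) + 3) t ∈ Subgroup.normalizer (S.XZ (2 * a + 1) : Set G)) : t = 0 := by
  have hm : S.o (a : ZMod 8) 1 ∈ S.XZ (2 * a + 1) := S.o_mem a 1
  have h1 := S.o_o3 (a : ZMod 8) 1 t
  rw [map_one, one_mul, one_mul] at h1
  have h2 := (Subgroup.mem_normalizer_iff.1 (inv_mem h) _).1 hm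
  rw [inv_inv] at h2
  have h4 : S.o ((a : ZMod 8) + 1) t * S.o ((a : ZMod 8) + 2) (σ t) ∈ S.XZ (2 * a + 1) := by
    have e : S.o ((a : ZMod 8) + 1) t * S.o ((a : ZMod 8) + 2) (σ t) =
        (S.o (a : ZMod 8) 1)⁻¹ * ((S.o ((a : ZMod 8) + 3) t)⁻¹ * S.o (a : ZMod 8) 1 * S.o ((a : ZMod 8) + 3) t) := by
      rw [mul_assoc (S.o ((a : ZMod 8) + 3) t)⁻¹, h1]; group
    rw [e]
    exact mul_mem (inv_mem hm) h2
  have m1 : S.o ((a : ZMod 8) + 1) t ∈ S.XZ (2 * a + 3) := by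
    have := S.o_mem (a + 1) t
    push_cast at this
    rwa [show 2 * (a + 1) + 1 = 2 * a + 3 by ring] at this
  have m2 : S.o ((a : ZMod 8) + 2) (σ t) ∈ S.XZ (2 * a + 5) := by
    have := S.o_mem (a + 2) (σ t)
    push_cast at this
    rwa [show 2 * (a + 2) + 1 = 2 * a + 5 by ring] at this
  have h5 := S.zsys8.inter _ _ h4 (mul_mem (mem_J m1 (by omega) (by omega)) (mem_J m2 (by omega) (by omega)))
  have h6 : S.o ((a : ZMod 8) + 1) t = 1 := by
    refine S.zsys8.inter _ _ m1 ?_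
    rw [eq_inv_of_mul_eq_one_left h5]
    exact inv_mem (mem_J m2 (by omega) (by omega))
  exact S.o_eq_one h6

/-- opposite root groups -/
theorem dist_opp {a : ℤ} {t : F} (h : S.o (a : ZMod 8) t ∈ Subgroup.normalizer (S.XZ (2 * a + 9) : Set G)) : t = 0 := by
  by_contra ht
  have hm : S.o (a : ZMod 8) t ∈ S.XZ (2 * a + 1) := S.o_mem a t
  have hne : S.o (a : ZMod 8) t ≠ 1 := fun h => ht (S.o_eq_one h)
  obtain ⟨v, hv, v', hv', hr⟩ := S.zsys8.mu _ _ hm hne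
  have e1 : S.XZ (2 * a + 1 - 8) = S.XZ (2 * a + 9) := by
    have := S.zsys8.per' (2 * a + 9)
    rw [← this]
    congr 1
    ring
  rw [e1] at hv hv'
  have hn : v * S.o (a : ZMod 8) t * v' ∈ Subgroup.normalizer (S.XZ (2 * a + 9) : Set G) :=
    mul_mem (mul_mem (Subgroup.le_normalizer hv) h) (Subgroup.le_normalizer hv')
  obtain ⟨x, hx, hx1⟩ := S.zsys8.exists_ne (2 * a + 9)
  have h1 := (Subgroup.mem_normalizer_iff.1 hn x).1 hx
  have h2 := hr.mem hx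
  have h3 := X_ne (S := S) (i := 2 * a + 9) (j := 2 * (2 * a + 1) - 8 - (2 * a + 9)) (fun he => ?_) h1 h2
  · exact conj_ne_one hx1 h3
  · have h4 : ((2 * a + 9 - (2 * (2 * a + 1) - 8 - (2 * a + 9)) : ℤ) : ZMod (2 * 8)) = 0 := by
      rw [Int.cast_sub, he, sub_self]
    rw [ZMod.intCast_zmod_eq_zero_iff_dvd] at h4
    obtain ⟨m, hm⟩ := h4
    have hm' : 2 * a + 9 - (2 * (2 * a + 1) - 8 - (2 * a + 9)) = 16 * m := by rw [hm]; norm_num
    omega

/-! ### the stabilisers in `UO` -/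

theorem cj_XZ_of_maps {w : G} {f : ZMod (2 * 8) → ZMod (2 * 8)} (hw : Maps S.R.X w f) {k j : ℤ}
    (h : f (k : ZMod (2 * 8)) = (j : ZMod (2 * 8))) : cj w (S.XZ k) = S.XZ j := by
  ext x
  rw [mem_cj]
  have h1 := hw (k : ZMod (2 * 8)) (w⁻¹ * x * w)
  rw [h] at h1
  have e : w * (w⁻¹ * x * w) * w⁻¹ = x := by group
  rw [e] at h1
  exact h1.symm

section

variable [Finite F] [Finite G]

/-- the components of an element of a `T`-invariant subgroup of `UO` -/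
theorem comp_UO (hF : ∃ c : Fˣ, c ≠ 1) (hR : S.R.p = 2) {V : Subgroup G} (hT : ∀ t ∈ S.T, ∀ x ∈ V, t * x * t⁻¹ ∈ V)
    {a b c d : F} (h : pU S a b c d ∈ V) : S.o 0 a ∈ V ∧ S.o 1 b ∈ V ∧ S.o 2 c ∈ V ∧ S.o 3 d ∈ V := by
  have j3 : S.o 3 d ∈ J S.XZ 6 8 := mem_J (S.mX7 d) (by norm_num) (by norm_num)
  have j2 : S.o 2 c * S.o 3 d ∈ J S.XZ 4 8 :=
    mul_mem (mem_J (S.mX5 c) (by norm_num) (by norm_num)) (J_mono (by norm_num) le_rfl j3)
  have j1 : S.o 1 b * (S.o 2 c * S.o 3 d) ∈ J S.XZ 2 8 :=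
    mul_mem (mem_J (S.mX3 b) (by norm_num) (by norm_num)) (J_mono (by norm_num) le_rfl j2)
  have h0 := peel S hF hR hT (a := 1) (b := 8) (by norm_num) (S.mX1 a) j1 h
  have k0 := mul_mem (inv_mem h0) h
  unfold pU at k0
  rw [inv_mul_cancel_left] at k0
  have h1 := peel S hF hR hT (a := 3) (b := 8) (by norm_num) (S.mX3 b) j2 k0
  have k1 := mul_mem (inv_mem h1) k0
  rw [inv_mul_cancel_left] at k1
  have h2 := peel S hF hR hT (a := 5) (b := 8) (by norm_num) (S.mX5 c) j3 k1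
  have k2 := mul_mem (inv_mem h2) k1
  rw [inv_mul_cancel_left] at k2
  exact ⟨h0, h1, h2, k2⟩

theorem T_norm_XZ (k : ℤ) : S.T ≤ Subgroup.normalizer (S.XZ k : Set G) := fun _ ht =>
  norm_of_le fun _ hx => S.T_conj ht k hx

theorem comp_norm (hF : ∃ c : Fˣ, c ≠ 1) (hR : S.R.p = 2) (k : ℤ) {a b c d : F}
    (h : pU S a b c d ∈ Subgroup.normalizer (S.XZ k : Set G)) : S.o 0 a ∈ Subgroup.normalizer (S.XZ k : Set G) ∧
      S.o 1 b ∈ Subgroup.normalizer (S.XZ k : Set G) ∧ S.o 2 c ∈ Subgroup.normalizer (S.XZ k : Set G) ∧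
      S.o 3 d ∈ Subgroup.normalizer (S.XZ k : Set G) :=
  comp_UO hF hR (fun _ ht _ hx => mul_mem (mul_mem (T_norm_XZ k ht) hx) (inv_mem (T_norm_XZ k ht))) h

/-- a root element that commutes with a root group normalises it -/
theorem norm_of_comm {a b : ZMod 8} {k : ℤ} (hk : ∀ x ∈ S.XZ k, ∃ s, S.o b s = x)
    (hc : ∀ t s, S.o a t * S.o b s = S.o b s * S.o a t) (t : F) :
    S.o a t ∈ Subgroup.normalizer (S.XZ k : Set G) := by
  refine norm_of_le fun x hx => ?_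
  obtain ⟨s, rfl⟩ := hk x hx
  rw [hc, mul_inv_cancel_right]
  exact hx

theorem X13 {x : G} (hx : x ∈ S.XZ 13) : ∃ t, S.o 6 t = x := (S.mem_XZ_odd 6 x).1 hx

theorem norm1 (hF : ∃ c : Fˣ, c ≠ 1) (hR : S.R.p = 2) {a b c d : F} :
    pU S a b c d ∈ Subgroup.normalizer (S.XZ 1 : Set G) ↔ d = 0 := by
  constructor
  · intro h
    exact dist_b (S := S) (a := 0) (comp_norm hF hR 1 h).2.2.2
  · rintro rfl
    unfold pU
    rw [S.o_zero, mul_one]
    exact mul_mem (Subgroup.le_normalizer (S.mX1 a)) (mul_mem (norm_of_comm (b := 0) (fun _ h => S.X1 h) (o1_o0 S) b)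
      (norm_of_comm (b := 0) (fun _ h => S.X1 h) (o2_o0 S) c))

theorem norm5 (a b c d : F) : pU S a b c d ∈ Subgroup.normalizer (S.XZ 5 : Set G) := by
  refine norm_of_le fun x hx => ?_
  obtain ⟨s, rfl⟩ := S.X5 hx
  have h := comm_center (S := S) (pU_mem S a b c d) 0 s
  rw [S.o_zero, one_mul] at h
  rw [h, mul_inv_cancel_right]
  exact hx

theorem norm9 (hF : ∃ c : Fˣ, c ≠ 1) (hR : S.R.p = 2) {a b c d : F} :
    pU S a b c d ∈ Subgroup.normalizer (S.XZ 9 : Set G) ↔ a = 0 ∧ b = 0 := by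
  constructor
  · intro h
    obtain ⟨h0, h1, h2, h3⟩ := comp_norm hF hR 9 h
    exact ⟨dist_opp (S := S) (a := 0) h0, dist_a (S := S) (a := 1) h1⟩
  · rintro ⟨rfl, rfl⟩
    unfold pU
    rw [S.o_zero, S.o_zero, one_mul, one_mul]
    exact mul_mem (norm_of_comm (b := 4) (fun _ h => S.X9 h) (fun t s => S.o_o2 2 t s) c)
      (norm_of_comm (b := 4) (fun _ h => S.X9 h) (fun t s => S.o_o1 3 t s) d)

theorem norm13 (hF : ∃ c : Fˣ, c ≠ 1) (hR : S.R.p = 2) {a b c d : F} :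
    pU S a b c d ∈ Subgroup.normalizer (S.XZ 13 : Set G) ↔ b = 0 ∧ c = 0 ∧ d = 0 := by
  constructor
  · intro h
    obtain ⟨h0, h1, h2, h3⟩ := comp_norm hF hR 13 h
    refine ⟨dist_b (S := S) (a := -2) ?_, dist_opp (S := S) (a := 2) h2, dist_a (S := S) (a := 3) h3⟩
    have e : ((-2 : ℤ) : ZMod 8) + 3 = 1 := by decide
    have e2 : S.XZ (2 * (-2) + 1) = S.XZ 13 := rfl
    rw [e, e2]
    exact h1
  · rintro ⟨rfl, rfl, rfl⟩
    unfold pU
    rw [S.o_zero, S.o_zero, S.o_zero, one_mul, one_mul, mul_one]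
    exact norm_of_comm (b := 6) (fun _ h => X13 h) (fun t s => (S.o_o2 6 s t).symm) a

/-! ### the orbits of `UO` -/

theorem card_UO : Nat.card (UO S) = Nat.card F ^ 4 := by
  rw [card_of_param (α := F × F × F × F) (f := fun x => pU S x.1 x.2.1 x.2.2.1 x.2.2.2) ?_ fun g => ?_]
  · rw [Nat.card_prod, Nat.card_prod, Nat.card_prod]; ring
  · rintro ⟨a, b, c, d⟩ ⟨a', b', c', d'⟩ h
    obtain ⟨rfl, rfl, rfl, rfl⟩ := pU_inj S h
    rfl
  · constructor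
    · rintro ⟨a, b, c, d, rfl⟩
      exact ⟨(a, b, c, d), rfl⟩
    · rintro ⟨x, rfl⟩
      exact pU_mem S _ _ _ _

theorem stab1 (hF : ∃ c : Fˣ, c ≠ 1) (hR : S.R.p = 2) :
    Nat.card ↥(UO S ⊓ Subgroup.normalizer (S.XZ 1 : Set G)) = Nat.card F ^ 3 := by
  rw [card_of_param (α := F × F × F) (f := fun x => pU S x.1 x.2.1 x.2.2 0) ?_ fun g => ?_]
  · rw [Nat.card_prod, Nat.card_prod]; ring
  · rintro ⟨a, b, c⟩ ⟨a', b', c'⟩ h
    obtain ⟨rfl, rfl, rfl, -⟩ := pU_inj S h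
    rfl
  · constructor
    · rintro ⟨⟨a, b, c, d, rfl⟩, h⟩
      obtain rfl := (norm1 hF hR).1 h
      exact ⟨(a, b, c), rfl⟩
    · rintro ⟨x, rfl⟩
      exact ⟨pU_mem S _ _ _ _, (norm1 hF hR).2 rfl⟩

theorem stab5 : Nat.card ↥(UO S ⊓ Subgroup.normalizer (S.XZ 5 : Set G)) = Nat.card F ^ 4 := by
  have : UO S ⊓ Subgroup.normalizer (S.XZ 5 : Set G) = UO S := by
    refine inf_eq_left.2 ?_
    rintro _ ⟨a, b, c, d, rfl⟩
    exact norm5 a b c d
  rw [this, card_UO]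

theorem stab9 (hF : ∃ c : Fˣ, c ≠ 1) (hR : S.R.p = 2) :
    Nat.card ↥(UO S ⊓ Subgroup.normalizer (S.XZ 9 : Set G)) = Nat.card F ^ 2 := by
  rw [card_of_param (α := F × F) (f := fun x => pU S 0 0 x.1 x.2) ?_ fun g => ?_]
  · rw [Nat.card_prod]; ring
  · rintro ⟨a, b⟩ ⟨a', b'⟩ h
    obtain ⟨-, -, rfl, rfl⟩ := pU_inj S h
    rfl
  · constructor
    · rintro ⟨⟨a, b, c, d, rfl⟩, h⟩
      obtain ⟨rfl, rfl⟩ := (norm9 hF hR).1 h
      exact ⟨(c, d), rfl⟩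
    · rintro ⟨x, rfl⟩
      exact ⟨pU_mem S _ _ _ _, (norm9 hF hR).2 ⟨rfl, rfl⟩⟩

theorem stab13 (hF : ∃ c : Fˣ, c ≠ 1) (hR : S.R.p = 2) :
    Nat.card ↥(UO S ⊓ Subgroup.normalizer (S.XZ 13 : Set G)) = Nat.card F := by
  rw [card_of_param (α := F) (f := fun x => pU S x 0 0 0) ?_ fun g => ?_]
  · intro a a' h
    exact (pU_inj S h).1
  · constructor
    · rintro ⟨⟨a, b, c, d, rfl⟩, h⟩
      obtain ⟨rfl, rfl, rfl⟩ := (norm13 hF hR).1 h
      exact ⟨a, rfl⟩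
    · rintro ⟨x, rfl⟩
      exact ⟨pU_mem S _ _ _ _, (norm13 hF hR).2 ⟨rfl, rfl, rfl⟩⟩

theorem q_pos : 0 < Nat.card F := Nat.card_pos

theorem orb1 (hF : ∃ c : Fˣ, c ≠ 1) (hR : S.R.p = 2) : (Orb (UO S) (S.XZ 1)).ncard = Nat.card F := by
  have h := card_Orb (UO S) (S.XZ 1)
  rw [stab1 hF hR, card_UO] at h
  exact Nat.eq_of_mul_eq_mul_right (pow_pos q_pos 3) (h.trans (by ring))

theorem orb5 : (Orb (UO S) (S.XZ 5)).ncard = 1 := by
  have h := card_Orb (UO S) (S.XZ 5)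
  rw [stab5, card_UO] at h
  exact Nat.eq_of_mul_eq_mul_right (pow_pos q_pos 4) (h.trans (by ring))

theorem orb9 (hF : ∃ c : Fˣ, c ≠ 1) (hR : S.R.p = 2) : (Orb (UO S) (S.XZ 9)).ncard = Nat.card F ^ 2 := by
  have h := card_Orb (UO S) (S.XZ 9)
  rw [stab9 hF hR, card_UO] at h
  exact Nat.eq_of_mul_eq_mul_right (pow_pos q_pos 2) (h.trans (by ring))

theorem orb13 (hF : ∃ c : Fˣ, c ≠ 1) (hR : S.R.p = 2) : (Orb (UO S) (S.XZ 13)).ncard = Nat.card F ^ 3 := by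
  have h := card_Orb (UO S) (S.XZ 13)
  rw [stab13 hF hR, card_UO] at h
  exact Nat.eq_of_mul_eq_mul_right q_pos (h.trans (by ring))

theorem cj_W4 {w : G} (hw : IsW4 S w) : cj w (S.XZ 5) = S.XZ 5 ∨ cj w (S.XZ 5) = S.XZ 1 ∨ cj w (S.XZ 5) = S.XZ 9 ∨
    cj w (S.XZ 5) = S.XZ 13 := by
  obtain ⟨c, hc | hc⟩ := hw
  · rcases four_cases c with h | h | h | h
    · left; exact cj_XZ_of_maps hc (by rw [h]; decide)
    · right; right; left; exact cj_XZ_of_maps hc (by rw [h]; decide)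
    · right; right; right; exact cj_XZ_of_maps hc (by rw [h]; decide)
    · right; left; exact cj_XZ_of_maps hc (by rw [h]; decide)
  · have e : ((4 * c + 2 : ℤ) : ZMod (2 * 8)) = ((4 * c : ℤ) : ZMod (2 * 8)) + 2 := by push_cast; ring
    rw [e] at hc
    rcases four_cases c with h | h | h | h
    · right; right; right; exact cj_XZ_of_maps hc (by rw [h]; decide)
    · right; left; exact cj_XZ_of_maps hc (by rw [h]; decide)
    · left; exact cj_XZ_of_maps hc (by rw [h]; decide)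
    · right; right; left; exact cj_XZ_of_maps hc (by rw [h]; decide)

theorem Orb_MM : Orb (MM S) (S.XZ 5) = Orb (UO S) (S.XZ 5) ∪ (Orb (UO S) (S.XZ 1) ∪
    (Orb (UO S) (S.XZ 9) ∪ Orb (UO S) (S.XZ 13))) := by
  apply Set.Subset.antisymm
  · rintro _ ⟨m, hm, rfl⟩
    obtain ⟨b, hb, w, hw, b', hb', rfl⟩ := bruhat_MM S hm
    have h5 : cj b' (S.XZ 5) = S.XZ 5 := by
      obtain ⟨x, y, z, t, rfl⟩ := hb'
      exact mem_norm_iff.1 (norm5 x y z t)
    rw [cj_mul, cj_mul, h5]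
    rcases cj_W4 hw with h | h | h | h <;> rw [h]
    · exact Or.inl ⟨b, hb, rfl⟩
    · exact Or.inr (Or.inl ⟨b, hb, rfl⟩)
    · exact Or.inr (Or.inr (Or.inl ⟨b, hb, rfl⟩))
    · exact Or.inr (Or.inr (Or.inr ⟨b, hb, rfl⟩))
  · have key : ∀ (k : ℤ) (w : G), w ∈ MM S → cj w (S.XZ 5) = S.XZ k → Orb (UO S) (S.XZ k) ⊆ Orb (MM S) (S.XZ 5) := by
      rintro k w hw h _ ⟨b, hb, rfl⟩
      exact ⟨b * w, mul_mem (UO_le_MM S hb) hw, by rw [cj_mul, h]⟩
    have hm := mJ_maps S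
    have hnm := (S.n1_maps).mul hm
    have k1 : cj (mJ S) (S.XZ 5) = S.XZ 1 := cj_XZ_of_maps hm (by decide)
    have k9 : cj (S.n1 * mJ S) (S.XZ 5) = S.XZ 9 := cj_XZ_of_maps hnm (by decide)
    have k13 : cj (S.n1 * mJ S * (S.n1 * mJ S)) (S.XZ 5) = S.XZ 13 := cj_XZ_of_maps (hnm.mul hnm) (by decide)
    have h1 := n1_mem_MM S
    have h2 := mJ_mem_MM S
    refine Set.union_subset (key 5 1 (one_mem _) (cj_one _)) (Set.union_subset (key 1 _ h2 k1)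
      (Set.union_subset (key 9 _ (mul_mem h1 h2) k9) (key 13 _ (mul_mem (mul_mem h1 h2) (mul_mem h1 h2)) k13)))

theorem ncard_Orb (hF : ∃ c : Fˣ, c ≠ 1) (hR : S.R.p = 2) : (Orb (MM S) (S.XZ 5)).ncard =
    1 + (Nat.card F + (Nat.card F ^ 2 + Nat.card F ^ 3)) := by
  have hq : 1 < Nat.card F := Finite.one_lt_card
  have hd : ∀ W W' : Subgroup G, (Orb (UO S) W).ncard ≠ (Orb (UO S) W').ncard → Disjoint (Orb (UO S) W) (Orb (UO S) W') := by
    intro W W' h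
    rw [Set.disjoint_left]
    intro Z h1 h2
    exact h (by rw [Orb_eq h1 h2])
  have e0 := pow_zero (Nat.card F)
  have e1 := pow_one (Nat.card F)
  have hne : ∀ i j : ℕ, i ≠ j → Nat.card F ^ i ≠ Nat.card F ^ j := fun i j hij h => hij (Nat.pow_right_injective hq h)
  have d51 : Disjoint (Orb (UO S) (S.XZ 5)) (Orb (UO S) (S.XZ 1)) := hd _ _ (by
    rw [orb5, orb1 hF hR]; omega)
  have d59 : Disjoint (Orb (UO S) (S.XZ 5)) (Orb (UO S) (S.XZ 9)) := hd _ _ (by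
    rw [orb5, orb9 hF hR, ← e0]; exact hne _ _ (by norm_num))
  have d513 : Disjoint (Orb (UO S) (S.XZ 5)) (Orb (UO S) (S.XZ 13)) := hd _ _ (by
    rw [orb5, orb13 hF hR, ← e0]; exact hne _ _ (by norm_num))
  have d19 : Disjoint (Orb (UO S) (S.XZ 1)) (Orb (UO S) (S.XZ 9)) := hd _ _ (by
    rw [orb1 hF hR, orb9 hF hR]; nth_rw 1 [← e1]; exact hne _ _ (by norm_num))
  have d113 : Disjoint (Orb (UO S) (S.XZ 1)) (Orb (UO S) (S.XZ 13)) := hd _ _ (by
    rw [orb1 hF hR, orb13 hF hR]; nth_rw 1 [← e1]; exact hne _ _ (by norm_num))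
  have d913 : Disjoint (Orb (UO S) (S.XZ 9)) (Orb (UO S) (S.XZ 13)) := hd _ _ (by
    rw [orb9 hF hR, orb13 hF hR]; exact hne _ _ (by norm_num))
  have hfin : ∀ A : Set (Subgroup G), A.Finite := fun A => Set.toFinite A
  rw [Orb_MM, Set.ncard_union_eq (d51.union_right (d59.union_right d513)) (hfin _) (hfin _),
    Set.ncard_union_eq (d19.union_right d113) (hfin _) (hfin _), Set.ncard_union_eq d913 (hfin _) (hfin _), orb5,
    orb1 hF hR, orb9 hF hR, orb13 hF hR]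

/-! ### the prime `u` -/

/-- `N(X_5) ≤ N(J 2 8)` -/
theorem norm_X5_le : Subgroup.normalizer (S.XZ 5 : Set G) ≤ Subgroup.normalizer (J S.XZ 2 8 : Set G) := by
  intro g hg
  have h := (Subgroup.mem_normalizer_iff.1 hg _).1 (S.mX5 1)
  obtain ⟨s', hs'⟩ := S.X5 h
  have h1 : g * (1 * S.o 2 1) * g⁻¹ = 1 * S.o 2 s' := by rw [one_mul, one_mul, hs']
  have hs1 : S.o 2 s' ≠ 1 := by
    rw [hs']
    exact conj_ne_one fun h => one_ne_zero (S.o_eq_one h)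
  obtain ⟨y, hy, t, ht, rfl⟩ := S.parab_of_conj (one_mem _) (S.mX5 1) (one_mem _) (S.mX5 s') hs1 h1
  refine norm_of_le fun x hx => ?_
  have e : y * t * x * (y * t)⁻¹ = y * (t * x * t⁻¹) * y⁻¹ := by group
  rw [e]
  exact S.zsys8.conj_J (a := 2) (b := 8) (c := 1) (d := 9) (by norm_num) (by norm_num) (by norm_num) hy
    (S.T_conj_J ht hx)

/-- **`u` does not divide `|M|`** -/
theorem not_dvd_MM (hF : ∃ c : Fˣ, c ≠ 1) (hR : S.R.p = 2) {u a : ℕ} (hq : Nat.card F = 2 ^ a) (ha : 1 ≤ a)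
    (hu : H436.Prim 2 (12 * a) u) (h28 : ¬ u ∣ Nat.card ↥(Subgroup.normalizer (J S.XZ 2 8 : Set G))) :
    ¬ u ∣ Nat.card (MM S) := by
  intro h
  rw [← card_Orb (MM S) (S.XZ 5), hu.prime.dvd_mul] at h
  rcases h with h | h
  · rw [ncard_Orb hF hR] at h
    have h1 : u ∣ 2 ^ (4 * a) - 1 := by
      have e : 2 ^ (4 * a) - 1 = (Nat.card F - 1) * (1 + (Nat.card F + (Nat.card F ^ 2 + Nat.card F ^ 3))) := by
        have h2 : 1 ≤ Nat.card F := q_pos
        rw [show 2 ^ (4 * a) = Nat.card F ^ 4 by rw [hq, ← pow_mul, mul_comm]]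
        zify [h2, Nat.one_le_pow 4 _ h2]
        ring
      rw [e]
      exact Dvd.dvd.mul_left h _
    have h2 := Nat.le_of_dvd (by omega) ((hu.dvd_iff (4 * a)).1 h1)
    omega
  · exact h28 (h.trans (Subgroup.card_dvd_of_le (inf_le_right.trans norm_X5_le)))

/-- **`u` does not divide `|N(M)|`** -/
theorem not_dvd_norm (hF : ∃ c : Fˣ, c ≠ 1) (hR : S.R.p = 2) {u a : ℕ} (hq : Nat.card F = 2 ^ a) (ha : 1 ≤ a)
    (hu : H436.Prim 2 (12 * a) u) (h28 : ¬ u ∣ Nat.card ↥(Subgroup.normalizer (J S.XZ 2 8 : Set G))) :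
    ¬ u ∣ Nat.card ↥(Subgroup.normalizer (MM S : Set G)) := by
  intro hdvd
  have := Fact.mk hu.prime
  have hu2 : u ≠ 2 := fun h => hu.not_dvd (by rw [h])
  obtain ⟨x, hx⟩ := exists_prime_orderOf_dvd_card' u hdvd
  have hN := ov_norm (S := S) hF hR
  have h2 : (x : G) * x ∈ MM S := by
    by_cases h : (x : G) ∈ MM S
    · exact mul_mem h h
    · exact hN.prod hF hR x.2 x.2 x.2 x.2 h h
  have hodd : Odd u := hu.prime.odd_of_ne_two hu2
  obtain ⟨k, hk⟩ := hodd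
  have h3 : (x : G) ^ u = 1 := by
    have : x ^ u = 1 := by rw [← hx, pow_orderOf_eq_one]
    exact congrArg Subtype.val this
  have h4 : (x : G) ∈ MM S := by
    have h5 := pow_mem h2 (k + 1)
    rw [← pow_two, ← pow_mul, show 2 * (k + 1) = u + 1 by omega, pow_succ, h3, one_mul] at h5
    exact h5
  have h5 : orderOf (⟨x, h4⟩ : MM S) = u := by
    rw [← hx, ← Subgroup.orderOf_coe, ← Subgroup.orderOf_coe]
  exact not_dvd_MM hF hR hq ha hu h28 (h5 ▸ orderOf_dvd_natCard _)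

end

end Cfsg.Agent.H136.TwF
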