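import Cfsg.Agent.H136.TwF.Cnt
import Cfsg.Agent.H823.TwFSzD
import Cfsg.Agent.H940.MaxCls

/-!
# Five pairwise apart subgroups of `²F₄(q)`, `q ≥ 8` (helper136, task 629, for S5906 and S5907)

`N(J 2 8)`, `N(J 1 7)`, `N(⟨X_odd⟩)`, `N(⟨Z_0, Z_4, Z_8, Z_12⟩)` (helper823), `⟨x⟩`, `|x|` a primitive prime divisor of
`2 ^ (12 a) - 1`, `q = 2 ^ a`.
-/

set_option autoImplicit false
set_option linter.unusedSectionVars false

namespace Cfsg.Agent.H136.TwF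

open Cfsg.Agent.KFacts.TwF4 Cfsg.Agent.KFacts.TwF4.Full Cfsg.Agent.KFacts.TwF4.Arc
open Cfsg.Agent.KFacts.TwF4.Inv Cfsg.Agent.KFacts.TwF4.SylU Cfsg.Agent.KFacts.TwF4.Perf
open Cfsg.Agent.SplitTwo Cfsg.Agent.SplitTwo.ZS Cfsg.Agent.TitsThree.RankTwoZ Cfsg.Agent.TitsThree.RankTwoRGD
open Cfsg.Agent.SplitTwo.RootSysZ
open Cfsg.Agent.H392.TwFFour
open Cfsg.Agent.H187 Cfsg.Agent.H187.TwF4Par
open Cfsg.Agent.H940.MaxCls

universe u

variable {F : Type*} [Field F] {σ : F →+* F} {G : Type u} [Group G] {S : Full σ G}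

theorem n1_P1 [Finite G] : S.n1 ∈ Subgroup.normalizer (J S.XZ 2 8 : Set G) :=
  norm_of_le fun _ hx => S.n1_refl.mem_J hx (by norm_num) (by norm_num)

theorem n2_P2 [Finite G] : S.n2 ∈ Subgroup.normalizer (J S.XZ 1 7 : Set G) :=
  norm_of_le fun _ hx => S.n2_refl.mem_J hx (by norm_num) (by norm_num)

theorem n1_P2 (h : S.n1 ∈ Subgroup.normalizer (J S.XZ 1 7 : Set G)) : False := by
  have h2 : S.e 1 1 0 ∈ J S.XZ 1 7 := mem_J (S.mX2 1 0) (by norm_num) (by norm_num)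
  have h3 := (Subgroup.mem_normalizer_iff.1 h _).1 h2
  rw [S.n1_e, show (5 : ZMod 8) - 1 = 4 by decide] at h3
  have h5 := S.zsys8.inter' (k := 8) (S.mX8 1 0) h3
  exact one_ne_zero (α := F) (S.e_eq_one h5).1

theorem n2_P1 (h : S.n2 ∈ Subgroup.normalizer (J S.XZ 2 8 : Set G)) : False := by
  have h2 : S.o 3 1 ∈ J S.XZ 2 8 := mem_J (S.mX7 1) (by norm_num) (by norm_num)
  have h3 := (Subgroup.mem_normalizer_iff.1 h _).1 h2
  rw [S.n2_o, show (3 : ZMod 8) - 3 = 0 by decide] at h3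
  have h5 := S.zsys8.inter 1 _ (S.mX1 1) h3
  exact one_ne_zero (α := F) (S.o_eq_one h5)

section

variable [Finite F] [Finite G]

theorem coatom_P1 : IsCoatom (Subgroup.normalizer (J S.XZ 2 8 : Set G)) := by
  refine ⟨norm_ne_top1, fun K hlt => ?_⟩
  have hU' : J S.XZ 1 8 ⊓ ⊤ ≤ K := by rw [inf_top_eq]; exact U_le_norm1.trans hlt.le
  rcases Cfsg.Agent.H248.TwF4Over.overgroup (Cfsg.Agent.H248.TwF4Over.cond_top S) hU' with h | h | h
  · exact top_le_iff.1 h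
  · exact absurd h (not_le_of_gt hlt)
  · exact (n1_P2 (h (hlt.le n1_P1))).elim

theorem coatom_P2 : IsCoatom (Subgroup.normalizer (J S.XZ 1 7 : Set G)) := by
  refine ⟨norm_ne_top2, fun K hlt => ?_⟩
  have hU' : J S.XZ 1 8 ⊓ ⊤ ≤ K := by rw [inf_top_eq]; exact U_le_norm2.trans hlt.le
  rcases Cfsg.Agent.H248.TwF4Over.overgroup (Cfsg.Agent.H248.TwF4Over.cond_top S) hU' with h | h | h
  · exact top_le_iff.1 h
  · exact (n2_P1 (h (hlt.le n2_P2))).elim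
  · exact absurd h (not_le_of_gt hlt)

/-- no conjugate of the one maximal parabolic subgroup is in the other -/
theorem not_conj_P (hF : ∃ c : Fˣ, c ≠ 1) (hR : S.R.p = 2) (g : G)
    (h : ∀ x ∈ Subgroup.normalizer (J S.XZ 1 7 : Set G), g * x * g⁻¹ ∈ Subgroup.normalizer (J S.XZ 2 8 : Set G)) :
    False := by
  have hU2 : IsPGroup 2 (J S.XZ 1 8) := two_J S hR (a := 1) (b := 8) (by norm_num)
  have hQ : IsPGroup 2 ((J S.XZ 1 8).map (MulAut.conj g).toMonoidHom) := hU2.map _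
  have hQM : (J S.XZ 1 8).map (MulAut.conj g).toMonoidHom ≤ Subgroup.normalizer (J S.XZ 2 8 : Set G) := by
    rintro _ ⟨x, hx, rfl⟩
    exact h x (U_le_norm2 hx)
  have hn : ∀ y : G, (∀ x ∈ J S.XZ 1 8, y * x * y⁻¹ ∈ J S.XZ 1 8) → ∃ b ∈ J S.XZ 1 8, ∃ t ∈ S.T, y = b * t := by
    intro y hy
    exact norm_U S hF hR fun x => Subgroup.mem_normalizer_iff.1 (norm_of_le hy) x
  obtain ⟨p, hp, hpU⟩ := exists_conj_le (M := Subgroup.normalizer (J S.XZ 2 8 : Set G)) U_le_norm1 hU2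
    (fun y _ hy k hk => by
      obtain ⟨b, hb, t, ht, rfl⟩ := hn y hy
      have hpow : ∀ n : ℕ, ∃ b' ∈ J S.XZ 1 8, (b * t) ^ n = b' * t ^ n := by
        intro n
        induction n with
        | zero => exact ⟨1, one_mem _, by simp⟩
        | succ n ih =>
          obtain ⟨u', hu', e⟩ := ih
          refine ⟨u' * (t ^ n * b * (t ^ n)⁻¹), mul_mem hu' (S.T_conj_J (pow_mem ht n) hb), ?_⟩
          rw [pow_succ, e, pow_succ]; group
      obtain ⟨b', hb', e⟩ := hpow (2 ^ k)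
      rw [hk] at e
      have h1 : t ^ (2 ^ k) = b'⁻¹ := eq_inv_of_mul_eq_one_right e.symm
      have h2 : t ^ (2 ^ k) = 1 := T_inf_J S hR (pow_mem ht _) (by rw [h1]; exact inv_mem hb')
      have h3 := T_pow_two S ht h2
      rw [h3, mul_one]
      exact hb) hQ hQM
  obtain ⟨b, hb, t, ht, e⟩ := hn (p * g) fun x hx => by
    have := hpU (g * x * g⁻¹) ⟨x, hx, rfl⟩
    have e : p * (g * x * g⁻¹) * p⁻¹ = p * g * x * (p * g)⁻¹ := by group
    rwa [e] at this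
  have hT2 : S.T ≤ Subgroup.normalizer (J S.XZ 1 7 : Set G) := fun t ht => norm_of_le fun x hx => S.T_conj_J ht hx
  have hpg : p * g ∈ Subgroup.normalizer (J S.XZ 1 7 : Set G) := by
    rw [e]; exact mul_mem (U_le_norm2 hb) (hT2 ht)
  -- `N(J 1 7) ≤ N(J 2 8)`
  have h1 := h ((p * g)⁻¹ * S.n2 * (p * g)) (mul_mem (mul_mem (inv_mem hpg) n2_P2) hpg)
  have h2 := mul_mem (mul_mem hp h1) (inv_mem hp)
  have e2 : p * (g * ((p * g)⁻¹ * S.n2 * (p * g)) * g⁻¹) * p⁻¹ = S.n2 := by group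
  rw [e2] at h2
  exact n2_P1 h2

/-- no conjugate of `Z_4` is in `N(M)` -/
theorem not_conj_Z (hF : ∃ c : Fˣ, c ≠ 1) (hR : S.R.p = 2) (g : G)
    (h : ∀ x ∈ S.Zc 2, g * x * g⁻¹ ∈ Subgroup.normalizer (MM S : Set G)) : False := by
  have hN := ov_norm (S := S) hF hR
  have key : ∀ v : F, v ≠ 0 → g * S.e 2 0 v * g⁻¹ ∈ MM S → False := by
    intro v hv hM
    have hz1 : S.e 2 0 v ≠ 1 := fun h => hv (S.e_eq_one h).2
    obtain ⟨m, hm, hc⟩ := inv_class hF hR hM (by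
      calc g * S.e 2 0 v * g⁻¹ * (g * S.e 2 0 v * g⁻¹) = g * (S.e 2 0 v * S.e 2 0 v) * g⁻¹ := by group
        _ = 1 := by rw [z_sq S]; group) (conj_ne_one hz1)
    have k2 : ∀ (y : G) (s : F), s ≠ 0 → y * S.e 2 0 v * y⁻¹ ≠ S.o 2 s := fun y s hs =>
      S.not_conj ⟨v, rfl⟩ hs y
    have k1 : ∀ (y : G) (s : F), s ≠ 0 → y * S.e 2 0 v * y⁻¹ ≠ S.o 1 s := fun y s hs h1 => by
      refine k2 (S.rot * y) s hs ?_
      have h2 := S.rot_o 1 s
      rw [← h1, show (1 : ZMod 8) + 1 = 2 by decide] at h2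
      rw [← h2]; group
    have e : m * (g * S.e 2 0 v * g⁻¹) * m⁻¹ = (m * g) * S.e 2 0 v * (m * g)⁻¹ := by group
    rw [e] at hc
    rcases hc with ⟨j, s, rfl | rfl, hs, h1⟩ | ⟨s, t, hs, ht, h1⟩
    · exact k1 _ s hs h1
    · exact k2 _ s hs h1
    · obtain ⟨y, -, hy, -⟩ := exists_y (S := S) (t := t) hs
      refine k1 (y * (m * g)) s hs ?_
      rw [← hy] at h1
      calc y * (m * g) * S.e 2 0 v * (y * (m * g))⁻¹ = y * (m * g * S.e 2 0 v * (m * g)⁻¹) * y⁻¹ := by group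
        _ = S.o 1 s := by rw [h1]; group
  obtain ⟨c, hc⟩ := hF
  by_cases h1 : g * S.e 2 0 1 * g⁻¹ ∈ MM S
  · exact key 1 one_ne_zero h1
  by_cases h2 : g * S.e 2 0 c * g⁻¹ ∈ MM S
  · exact key c c.ne_zero h2
  have a1 := h _ ⟨1, rfl⟩
  have a2 := h _ ⟨(c : F), rfl⟩
  have h3 := hN.prod ⟨c, hc⟩ hR a1 a2 a1 a2 h1 h2
  have e : g * S.e 2 0 1 * g⁻¹ * (g * S.e 2 0 c * g⁻¹) = g * S.e 2 0 (1 + c) * g⁻¹ := by
    have : S.e 2 0 1 * S.e 2 0 c = S.e 2 0 (1 + c) := by rw [S.e_mul, add_zero, zero_mul, add_zero]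
    rw [← this]; group
  rw [e] at h3
  refine key (1 + c) (fun h0 => hc (Units.ext ?_)) h3
  rw [Units.val_one]
  exact (add_eq_zero' S h0).symm

end

/-- a maximal subgroup of order not divisible by `u` and a subgroup of order `u` -/
theorem apart_prime {G : Type*} [Group G] [Finite G] {u : ℕ} {x : G} (hx : orderOf x = u) {A : Subgroup G}
    (hA : IsCoatom A) (h : ¬ u ∣ Nat.card A) : Apart A (Subgroup.zpowers x) := by
  refine apart_of_coatom hA fun g => ⟨x, Subgroup.mem_zpowers x, fun h1 => h ?_⟩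
  have h2 : orderOf (⟨g * x * g⁻¹, h1⟩ : A) = u := by
    rw [← Subgroup.orderOf_coe]
    show orderOf (g * x * g⁻¹) = u
    rw [← hx]
    exact (MulAut.conj g).orderOf_eq x
  exact h2 ▸ orderOf_dvd_natCard _

/-- **five pairwise apart subgroups** -/
theorem sep_full [Finite F] [Finite G] (hF : ∃ c : Fˣ, c ≠ 1) (hR : S.R.p = 2) {u a : ℕ} (hq : Nat.card F = 2 ^ a)
    (ha : 1 ≤ a) (hu : H436.Prim 2 (12 * a) u) (hG : u ∣ Nat.card G)
    (h28 : ¬ u ∣ Nat.card ↥(Subgroup.normalizer (J S.XZ 2 8 : Set G)))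
    (h17 : ¬ u ∣ Nat.card ↥(Subgroup.normalizer (J S.XZ 1 7 : Set G))) : Sep 5 G := by
  have := Fact.mk hu.prime
  obtain ⟨x, hx⟩ := exists_prime_orderOf_dvd_card' u hG
  have c1 := coatom_P1 (S := S)
  have c2 := coatom_P2 (S := S)
  have cA := coatom (S := S) hF hR
  have cB := Cfsg.Agent.H823.TwFSz.coatom S hF hR
  have z1 : S.Zc 2 ≤ Subgroup.normalizer (J S.XZ 2 8 : Set G) := by
    rintro _ ⟨v, rfl⟩
    exact Subgroup.le_normalizer (mem_J (S.mX4 0 v) (by norm_num) (by norm_num))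
  have z2 : S.Zc 2 ≤ Subgroup.normalizer (J S.XZ 1 7 : Set G) := by
    rintro _ ⟨v, rfl⟩
    exact Subgroup.le_normalizer (mem_J (S.mX4 0 v) (by norm_num) (by norm_num))
  have zB : S.Zc 2 ≤ Subgroup.normalizer (Cfsg.Agent.H823.TwFSz.RR S : Set G) := by
    rintro _ ⟨v, rfl⟩
    exact (Cfsg.Agent.H823.TwFSz.X_le S).2.1 (S.mX4 0 v)
  have apA : ∀ B : Subgroup G, S.Zc 2 ≤ B → Apart (Subgroup.normalizer (MM S : Set G)) B := fun B hB =>
    apart_of_coatom cA fun g => by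
      by_contra hc
      push Not at hc
      exact not_conj_Z hF hR g fun z hz => hc z (hB hz)
  have apB : ∀ B : Subgroup G, J S.XZ 1 8 ≤ B → Apart (Subgroup.normalizer (Cfsg.Agent.H823.TwFSz.RR S : Set G)) B :=
    fun B hB => apart_of_coatom cB fun g => by
      by_contra hc
      push Not at hc
      refine Cfsg.Agent.H823.TwFSz.no_sylow S hF hR g ?_
      rintro _ ⟨z, hz, rfl⟩
      exact hc z (hB hz)
  have hD : Subgroup.zpowers x ≠ ⊤ := by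
    intro h
    have h1 : Nat.card G = u := by rw [← hx, ← Nat.card_zpowers, h]; simp
    have h2 : orderOf (S.o 0 1) = 2 := orderOf_eq_prime (by rw [pow_two]; exact o_sq S 0 1)
      (fun h => one_ne_zero (S.o_eq_one h))
    have h3 : 2 ∣ u := by rw [← h1, ← h2]; exact orderOf_dvd_natCard _
    have h4 := (Nat.prime_dvd_prime_iff_eq Nat.prime_two hu.prime).1 h3
    exact hu.not_dvd (by rw [← h4])
  refine sep_five (A := Subgroup.normalizer (J S.XZ 2 8 : Set G)) (B := Subgroup.normalizer (J S.XZ 1 7 : Set G))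
    (C := Subgroup.normalizer (MM S : Set G)) (D := Subgroup.normalizer (Cfsg.Agent.H823.TwFSz.RR S : Set G))
    (E := Subgroup.zpowers x) c1.1 c2.1 cA.1 cB.1 hD ?_ (apA _ z1).symm (apB _ U_le_norm1).symm (apart_prime hx c1 h28)
    (apA _ z2).symm (apB _ U_le_norm2).symm (apart_prime hx c2 h17) (apA _ zB)
    (apart_prime hx cA (not_dvd_norm hF hR hq ha hu h28))
    (apart_prime hx cB (Cfsg.Agent.H823.TwFSz.not_dvd S hF hR hu hq))
  refine apart_of_coatom c1 fun g => ?_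
  by_contra hc
  push Not at hc
  exact not_conj_P hF hR g hc

open Cfsg Cfsg.Lie in
/-- **`Sep 5` for the groups `²F₄(q)`, `q ≥ 8`** -/
theorem sep_2F4 {T : Type*} [Group T] [Finite T] (h : Cfsg.Lie.Iso2F4 T) : Sep 5 T := by
  obtain ⟨F, i1, i2, m, φ, S, hm, hK, ⟨e⟩, hR, hfin, hF⟩ := exists_full h
  obtain ⟨u, hu⟩ := H436.exists_prim (q := 2) (e := 12 * (2 * m + 1)) le_rfl (by omega) (by omega)
  have hc := S1068.result hK
  set G := ↥(twistedF4 F (2 ^ m)) with hG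
  have hu6 : u ∣ (2 ^ (2 * m + 1)) ^ 6 + 1 := by
    have := hu.dvd_add (m := (2 * m + 1) * 6) ⟨1, by ring⟩ (fun h1 => by
      have := Nat.le_of_dvd (by omega) h1
      omega)
    rwa [pow_mul] at this
  have hc' : Nat.card G = 2 ^ (12 * (2 * m + 1)) * ((2 ^ (2 * m + 1) - 1) * ((2 ^ (2 * m + 1)) ^ 3 + 1) *
      ((2 ^ (2 * m + 1)) ^ 4 - 1) * ((2 ^ (2 * m + 1)) ^ 6 + 1)) := by
    rw [hc, ← pow_mul, mul_comm 12]
    ring
  have hodd : ¬ 2 ∣ ((2 ^ (2 * m + 1) - 1) * ((2 ^ (2 * m + 1)) ^ 3 + 1) *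
      ((2 ^ (2 * m + 1)) ^ 4 - 1) * ((2 ^ (2 * m + 1)) ^ 6 + 1)) := by
    have hq : 2 ∣ 2 ^ (2 * m + 1) := dvd_pow_self 2 (by omega)
    have hq1 : 1 ≤ 2 ^ (2 * m + 1) := Nat.one_le_two_pow
    have a3 : 2 ∣ (2 ^ (2 * m + 1)) ^ 3 := dvd_pow hq (by norm_num)
    have a4 : 2 ∣ (2 ^ (2 * m + 1)) ^ 4 := dvd_pow hq (by norm_num)
    have a6 : 2 ∣ (2 ^ (2 * m + 1)) ^ 6 := dvd_pow hq (by norm_num)
    have b4 : 1 ≤ (2 ^ (2 * m + 1)) ^ 4 := Nat.one_le_pow _ _ (by omega)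
    rw [Nat.prime_two.dvd_mul, Nat.prime_two.dvd_mul, Nat.prime_two.dvd_mul]
    omega
  have hq : Nat.card F = 2 ^ (2 * m + 1) := by rw [Nat.card_eq_fintype_card, hK]
  refine Sep.of_mulEquiv ?_ e.symm
  refine sep_full (S := S) hF hR hq (by omega) hu ?_ ?_ ?_
  · rw [hc]
    exact Dvd.dvd.mul_left hu6 _
  · obtain ⟨a, ha, hVa⟩ := TwF4Par.card_lt hc' hodd hR (TwF4Par.J28_lt (S := S))
    exact not_dvd_card_normalizer hu hVa ha (TwF4Par.cent28 hR)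
  · obtain ⟨a, ha, hVa⟩ := TwF4Par.card_lt hc' hodd hR (TwF4Par.J17_lt (S := S))
    exact not_dvd_card_normalizer hu hVa ha (TwF4Par.cent17 hR)

end Cfsg.Agent.H136.TwF
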