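import Cfsg.Agent.H136.TwF.Peel
import Cfsg.Agent.H248.TwF4Over
import Cfsg.Agent.TitsThree.RankTwoIdx
import Cfsg.Agent.H392.TwFFour.Card

/-!
# The subgroup `M = ⟨X_odd⟩ ≅ Sp₄(q)` of `²F₄(q)` (helper136, task 629)

* `MM S`, `UO S = X_1X_3X_5X_7`, `T_le_MM`, `bruhat_MM`, `MM_inf` (`M ∩ J 1 8 = UO`), `norm_UO` (`N_M(UO) = UO T`),
  `conj_UO` (every `2`-subgroup of `M` is conjugate in `M` to a subgroup of `UO`).
-/

set_option autoImplicit false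
set_option linter.unusedSectionVars false

namespace Cfsg.Agent.H136.TwF

open Cfsg.Agent.KFacts.TwF4 Cfsg.Agent.KFacts.TwF4.Full Cfsg.Agent.KFacts.TwF4.Arc
open Cfsg.Agent.KFacts.TwF4.Inv Cfsg.Agent.KFacts.TwF4.SylU Cfsg.Agent.KFacts.TwF4.Perf
open Cfsg.Agent.SplitTwo Cfsg.Agent.SplitTwo.ZS Cfsg.Agent.TitsThree.RankTwoZ Cfsg.Agent.TitsThree.RankTwoRGD
open Cfsg.Agent.TitsThree.RankTwoIdx
open Cfsg.Agent.SplitTwo.RootSysZ
open scoped commutatorElement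

universe u

variable {F : Type*} [Field F] {σ : F →+* F} {G : Type u} [Group G] (S : Full σ G)

/-! ### `M` -/

/-- `M = ⟨X_odd⟩` -/
def MM : Subgroup G := Subgroup.closure {g | ∃ a t, S.o a t = g}

theorem o_mem_MM (a : ZMod 8) (t : F) : S.o a t ∈ MM S := Subgroup.subset_closure ⟨a, t, rfl⟩

theorem XZ_le_MM (a : ℤ) : S.XZ (2 * a + 1) ≤ MM S := by
  intro x hx
  obtain ⟨t, rfl⟩ := (S.mem_XZ_odd a x).1 hx
  exact o_mem_MM S _ t

theorem X1_le : S.XZ 1 ≤ MM S := XZ_le_MM S 0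
theorem X9_le : S.XZ 9 ≤ MM S := XZ_le_MM S 4

variable {S} in
theorem MM_le {K : Subgroup G} (h : ∀ a t, S.o a t ∈ K) : MM S ≤ K :=
  (Subgroup.closure_le _).2 (by rintro _ ⟨a, t, rfl⟩; exact h a t)

variable {S} in
theorem MM_conj {g : G} {f : ZMod 8 → ZMod 8} (h : ∀ a t, g * S.o a t * g⁻¹ = S.o (f a) t) {x : G} (hx : x ∈ MM S) :
    g * x * g⁻¹ ∈ MM S := by
  have : MM S ≤ (MM S).comap (MulAut.conj g).toMonoidHom := MM_le fun a t => by
    show g * S.o a t * g⁻¹ ∈ MM S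
    rw [h]; exact o_mem_MM S _ _
  exact this hx

theorem n1_mem_MM : S.n1 ∈ MM S := n1_mem_of S (X1_le S) (X9_le S)

/-- the reflection `k ↦ 6 - k` -/
def mJ : G := S.ck (-1) S.n1

theorem ck_ck (k l : ℤ) (x : G) : S.ck k (S.ck l x) = S.ck (k + l) x := by
  rw [S.ck_apply, S.ck_apply, S.ck_apply, zpow_add]; group

theorem ck_zero (x : G) : S.ck 0 x = x := by rw [S.ck_apply]; group

theorem mJ_conj (x : G) : mJ S * x * (mJ S)⁻¹ = S.ck (-1) (S.n1 * S.ck 1 x * S.n1⁻¹) := by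
  rw [map_mul, map_mul, map_inv, ck_ck, show (-1 : ℤ) + 1 = 0 by norm_num, ck_zero]; rfl

theorem mJ_o (a : ZMod 8) (t : F) : mJ S * S.o a t * (mJ S)⁻¹ = S.o (2 - a) t := by
  rw [mJ_conj, S.ck_o, S.n1_o, S.ck_o]
  congr 1
  push_cast
  ring

theorem mJ_e (a : ZMod 8) (p u : F) : mJ S * S.e a p u * (mJ S)⁻¹ = S.e (3 - a) p u := by
  rw [mJ_conj, S.ck_e, S.n1_e, S.ck_e]
  congr 1
  push_cast
  ring

theorem mJ_word : mJ S = S.o 7 1 * S.o 3 1 * S.o 7 1 := by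
  show S.ck (-1) S.n1 = _
  rw [S.n1_word, map_mul, map_mul, S.ck_o, S.ck_o]
  rfl

theorem mJ_sq : mJ S * mJ S = 1 := by
  show S.ck (-1) S.n1 * S.ck (-1) S.n1 = 1
  rw [← map_mul, S.n1_sq, map_one]

theorem mJ_maps : Maps S.R.X (mJ S) (fun k => 6 - k) := by
  have h1 : Maps S.R.X (S.rot ^ (-1 : ℤ)) (fun j => ((2 * (-1) : ℤ) : ZMod (2 * 8)) + j) := S.rot_maps (-1)
  have h2 : Maps S.R.X (S.rot ^ (-1 : ℤ))⁻¹ (fun j => 2 + j) := h1.inv fun k => by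
    show ((2 * (-1) : ℤ) : ZMod (2 * 8)) + (2 + k) = k
    push_cast; ring
  exact ((h1.mul (S.n1_maps)).mul h2).congr fun k => by
    show ((2 * (-1) : ℤ) : ZMod (2 * 8)) + (10 - (2 + k)) = 6 - k
    push_cast; ring

theorem mJ_mem_MM : mJ S ∈ MM S := by
  rw [mJ_word]
  exact mul_mem (mul_mem (o_mem_MM S _ _) (o_mem_MM S _ _)) (o_mem_MM S _ _)

theorem n2_conj_MM {x : G} (hx : x ∈ MM S) : S.n2 * x * S.n2⁻¹ ∈ MM S := MM_conj S.n2_o hx

/-! ### the torus is in `M` -/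

include S in
theorem s4_surj [Finite F] (v : Fˣ) : ∃ χ : Fˣ, χ ^ 2 / Units.map (σ : F →* F) χ = v := by
  let f : Fˣ →* Fˣ := powMonoidHom 2 / Units.map (σ : F →* F)
  have hf : Function.Injective f := (injective_iff_map_eq_one f).2 fun χ h => by
    have h1 : χ ^ 2 = Units.map (σ : F →* F) χ := div_eq_one.1 h
    have h2 := map_map σ S.sq χ
    rw [h1] at h2
    have h3 : Units.map (σ : F →* F) χ = χ := by
      have hi : Function.Injective (Units.map (σ : F →* F)) := Units.map_injective σ.injective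
      exact hi h2
    exact s2 S h3
  exact Finite.surjective_of_injective hf v

theorem T_le_MM [Finite F] : S.T ≤ MM S := by
  intro g hg
  obtain ⟨c, d, rfl⟩ := S.mem_T.1 hg
  have hL : S.LO ≤ MM S := sup_le (X1_le S) (X9_le S)
  have h1 : ∀ x, S.h x x ∈ MM S := fun x => hL (S.h_mem_LO x)
  have h2 : ∀ x, S.h x⁻¹ (x / Units.map (σ : F →* F) x) ∈ MM S := fun x => by
    rw [← S.n2_h]; exact n2_conj_MM S (h1 x)
  obtain ⟨y, hy⟩ := s4_surj S (d / c)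
  have h3 := mul_mem (h1 (c * y)) (h2 y)
  rw [S.h_mul] at h3
  convert h3 using 2
  · group
  · rw [show c * y * (y / Units.map (σ : F →* F) y) = c * (y ^ 2 / Units.map (σ : F →* F) y) by
      rw [pow_two, mul_div_assoc, mul_assoc], hy, mul_div_cancel]

/-! ### `UO = X_1X_3X_5X_7` -/

theorem o3_o0 (d t : F) : S.o 3 d * S.o 0 t = S.o 0 t * (S.o 1 (σ t * d) * (S.o 2 (t * σ d) * S.o 3 d)) := by
  have h := S.o_o3 0 t d
  rw [show (0 : ZMod 8) + 3 = 3 by decide, show (0 : ZMod 8) + 1 = 1 by decide, show (0 : ZMod 8) + 2 = 2 by decide] at h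
  have h1 : S.o 1 (σ t * d) * S.o 2 (t * σ d) = S.o 2 (t * σ d) * S.o 1 (σ t * d) := S.o_o1 1 _ _
  have h3 : S.o 1 (σ t * d) * S.o 3 d = S.o 3 d * S.o 1 (σ t * d) := S.o_o2 1 _ _
  have h4 : S.o 2 (t * σ d) * S.o 3 d = S.o 3 d * S.o 2 (t * σ d) := S.o_o1 2 _ _
  have e : S.o 0 t * (S.o 1 (σ t * d) * (S.o 2 (t * σ d) * S.o 3 d)) =
      (S.o 0 t * S.o 3 d) * (S.o 1 (σ t * d) * S.o 2 (t * σ d)) := by
    rw [h4, ← mul_assoc (S.o 1 _), h3]; simp only [mul_assoc]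
  rw [e, h]
  have e2 : S.o 3 d * S.o 0 t * S.o 1 (σ t * d) * S.o 2 (t * σ d) * (S.o 1 (σ t * d) * S.o 2 (t * σ d)) =
      S.o 3 d * S.o 0 t * (S.o 1 (σ t * d) * (S.o 2 (t * σ d) * S.o 1 (σ t * d)) * S.o 2 (t * σ d)) := by
    simp only [mul_assoc]
  rw [e2, ← h1, ← mul_assoc (S.o 1 (σ t * d)), o_sq S, one_mul, o_sq S, mul_one]

theorem o1_o0 (s t : F) : S.o 1 s * S.o 0 t = S.o 0 t * S.o 1 s := (S.o_o1 0 t s).symm
theorem o2_o0 (s t : F) : S.o 2 s * S.o 0 t = S.o 0 t * S.o 2 s := (S.o_o2 0 t s).symm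
theorem o2_o1 (s t : F) : S.o 2 s * S.o 1 t = S.o 1 t * S.o 2 s := (S.o_o1 1 t s).symm
theorem o3_o1 (s t : F) : S.o 3 s * S.o 1 t = S.o 1 t * S.o 3 s := (S.o_o2 1 t s).symm
theorem o3_o2 (s t : F) : S.o 3 s * S.o 2 t = S.o 2 t * S.o 3 s := (S.o_o1 2 t s).symm

/-- the elements of `UO` -/
def pU (a b c d : F) : G := S.o 0 a * (S.o 1 b * (S.o 2 c * S.o 3 d))

theorem pU_mul (a b c d a' b' c' d' : F) : pU S a b c d * pU S a' b' c' d' =
    pU S (a + a') (b + b' + σ a' * d) (c + c' + a' * σ d) (d + d') := by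
  have l10 : ∀ s t (x : G), S.o 1 s * (S.o 0 t * x) = S.o 0 t * (S.o 1 s * x) := fun s t x => by
    rw [← mul_assoc, o1_o0, mul_assoc]
  have l20 : ∀ s t (x : G), S.o 2 s * (S.o 0 t * x) = S.o 0 t * (S.o 2 s * x) := fun s t x => by
    rw [← mul_assoc, o2_o0, mul_assoc]
  have l21 : ∀ s t (x : G), S.o 2 s * (S.o 1 t * x) = S.o 1 t * (S.o 2 s * x) := fun s t x => by
    rw [← mul_assoc, o2_o1, mul_assoc]
  have l31 : ∀ s t (x : G), S.o 3 s * (S.o 1 t * x) = S.o 1 t * (S.o 3 s * x) := fun s t x => by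
    rw [← mul_assoc, o3_o1, mul_assoc]
  have l32 : ∀ s t (x : G), S.o 3 s * (S.o 2 t * x) = S.o 2 t * (S.o 3 s * x) := fun s t x => by
    rw [← mul_assoc, o3_o2, mul_assoc]
  have l30 : ∀ s t (x : G), S.o 3 s * (S.o 0 t * x) =
      S.o 0 t * (S.o 1 (σ t * s) * (S.o 2 (t * σ s) * (S.o 3 s * x))) := fun s t x => by
    rw [← mul_assoc, o3_o0]; simp only [mul_assoc]
  have m : ∀ a s t (x : G), S.o a s * (S.o a t * x) = S.o a (s + t) * x := fun a s t x => by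
    rw [← mul_assoc, S.o_add]
  unfold pU
  simp only [mul_assoc]
  simp only [l30, l20, l10, l21, l31, l32, m, S.o_add]
  rw [show b + (σ a' * d + b') = b + b' + σ a' * d by ring, show c + (a' * σ d + c') = c + c' + a' * σ d by ring]

theorem pU_zero : pU S 0 0 0 0 = 1 := by
  unfold pU
  rw [S.o_zero, S.o_zero, S.o_zero, S.o_zero, one_mul, one_mul, one_mul]

theorem pU_inv (a b c d : F) : (pU S a b c d)⁻¹ = pU S a (b + σ a * d) (c + a * σ d) d := by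
  rw [inv_eq_iff_mul_eq_one, pU_mul, char2 S, char2 S,
    show b + (b + σ a * d) + σ a * d = (b + b) + (σ a * d + σ a * d) by ring,
    show c + (c + a * σ d) + a * σ d = (c + c) + (a * σ d + a * σ d) by ring, char2 S, char2 S, char2 S, char2 S,
    zero_add, char2 S, pU_zero]

/-- the Sylow `2`-subgroup of `M` -/
def UO : Subgroup G where
  carrier := {g | ∃ a b c d, pU S a b c d = g}
  one_mem' := ⟨0, 0, 0, 0, pU_zero S⟩
  mul_mem' := by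
    rintro _ _ ⟨a, b, c, d, rfl⟩ ⟨a', b', c', d', rfl⟩
    exact ⟨_, _, _, _, (pU_mul S _ _ _ _ _ _ _ _).symm⟩
  inv_mem' := by
    rintro _ ⟨a, b, c, d, rfl⟩
    exact ⟨_, _, _, _, (pU_inv S _ _ _ _).symm⟩

theorem mem_UO {g : G} : g ∈ UO S ↔ ∃ a b c d, pU S a b c d = g := Iff.rfl

theorem pU_mem (a b c d : F) : pU S a b c d ∈ UO S := ⟨a, b, c, d, rfl⟩

theorem o0_UO (t : F) : S.o 0 t ∈ UO S := ⟨t, 0, 0, 0, by
  unfold pU; rw [S.o_zero, S.o_zero, S.o_zero, one_mul, one_mul, mul_one]⟩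
theorem o1_UO (t : F) : S.o 1 t ∈ UO S := ⟨0, t, 0, 0, by
  unfold pU; rw [S.o_zero, S.o_zero, S.o_zero, one_mul, one_mul, mul_one]⟩
theorem o2_UO (t : F) : S.o 2 t ∈ UO S := ⟨0, 0, t, 0, by
  unfold pU; rw [S.o_zero, S.o_zero, S.o_zero, one_mul, one_mul, mul_one]⟩
theorem o3_UO (t : F) : S.o 3 t ∈ UO S := ⟨0, 0, 0, t, by
  unfold pU; rw [S.o_zero, S.o_zero, S.o_zero, one_mul, one_mul, one_mul]⟩

theorem UO_le_MM : UO S ≤ MM S := by
  rintro _ ⟨a, b, c, d, rfl⟩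
  exact mul_mem (o_mem_MM S _ _) (mul_mem (o_mem_MM S _ _) (mul_mem (o_mem_MM S _ _) (o_mem_MM S _ _)))

theorem UO_le_J : UO S ≤ J S.XZ 1 7 := by
  rintro _ ⟨a, b, c, d, rfl⟩
  exact mul_mem (mem_J (S.mX1 a) (by norm_num) (by norm_num)) (mul_mem (mem_J (S.mX3 b) (by norm_num) (by norm_num))
    (mul_mem (mem_J (S.mX5 c) (by norm_num) (by norm_num)) (mem_J (S.mX7 d) (by norm_num) (by norm_num))))

theorem UO_le_J18 : UO S ≤ J S.XZ 1 8 := (UO_le_J S).trans (J_mono le_rfl (by norm_num))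

theorem pU_eq_one {a b c d : F} (h : pU S a b c d = 1) : a = 0 ∧ b = 0 ∧ c = 0 ∧ d = 0 := by
  have Z8 := S.zsys8
  have h3 : S.o 2 c * S.o 3 d ∈ J S.XZ 5 7 :=
    mul_mem (mem_J (S.mX5 c) (by norm_num) (by norm_num)) (mem_J (S.mX7 d) (by norm_num) (by norm_num))
  have h2 : S.o 1 b * (S.o 2 c * S.o 3 d) ∈ J S.XZ 3 7 :=
    mul_mem (mem_J (S.mX3 b) (by norm_num) (by norm_num)) (J_mono (by norm_num) le_rfl h3)
  have ha : a = 0 := by
    have e : S.o 0 a = (S.o 1 b * (S.o 2 c * S.o 3 d))⁻¹ := eq_inv_of_mul_eq_one_left h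
    have := Z8.inter 1 _ (S.mX1 a) (by rw [e]; exact J_mono (by norm_num) (by norm_num) (inv_mem h2))
    exact S.o_eq_one this
  subst ha
  unfold pU at h
  rw [S.o_zero, one_mul] at h
  have hb : b = 0 := by
    have e : S.o 1 b = (S.o 2 c * S.o 3 d)⁻¹ := eq_inv_of_mul_eq_one_left h
    have := Z8.inter 3 _ (S.mX3 b) (by rw [e]; exact J_mono (by norm_num) (by norm_num) (inv_mem h3))
    exact S.o_eq_one this
  subst hb
  rw [S.o_zero, one_mul] at h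
  have hc : c = 0 := by
    have e : S.o 2 c = (S.o 3 d)⁻¹ := eq_inv_of_mul_eq_one_left h
    have := Z8.inter 5 _ (S.mX5 c) (by rw [e]; exact inv_mem (mem_J (S.mX7 d) (by norm_num) (by norm_num)))
    exact S.o_eq_one this
  subst hc
  rw [S.o_zero, one_mul] at h
  exact ⟨rfl, rfl, rfl, S.o_eq_one h⟩

theorem pU_inj {a b c d a' b' c' d' : F} (h : pU S a b c d = pU S a' b' c' d') : a = a' ∧ b = b' ∧ c = c' ∧ d = d' := by
  have hn : ∀ x y : F, x + y = 0 → x = y := fun x y hxy => by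
    rw [eq_neg_of_add_eq_zero_left hxy, neg_eq_of_add_eq_zero_left (char2 S y)]
  have h1 : pU S a b c d * (pU S a' b' c' d')⁻¹ = 1 := by rw [h, mul_inv_cancel]
  rw [pU_inv, pU_mul] at h1
  obtain ⟨h2, h3, h4, h5⟩ := pU_eq_one S h1
  obtain rfl := hn _ _ h2
  obtain rfl := hn _ _ h5
  refine ⟨rfl, hn _ _ ?_, hn _ _ ?_, rfl⟩
  · rw [← h3, show b + (b' + σ a * d) + σ a * d = b + b' + (σ a * d + σ a * d) by ring, char2 S, add_zero]
  · rw [← h4, show c + (c' + a * σ d) + a * σ d = c + c' + (a * σ d + a * σ d) by ring, char2 S, add_zero]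

theorem T_conj_UO {t : G} (ht : t ∈ S.T) {x : G} (hx : x ∈ UO S) : t * x * t⁻¹ ∈ UO S := by
  obtain ⟨c, d, rfl⟩ := S.mem_T.1 ht
  obtain ⟨a, b, c', d', rfl⟩ := hx
  have e : S.h c d * pU S a b c' d' * (S.h c d)⁻¹ = (S.h c d * S.o 0 a * (S.h c d)⁻¹) *
      ((S.h c d * S.o 1 b * (S.h c d)⁻¹) * ((S.h c d * S.o 2 c' * (S.h c d)⁻¹) *
      (S.h c d * S.o 3 d' * (S.h c d)⁻¹))) := by unfold pU; group
  rw [e, S.h_o, S.h_o, S.h_o, S.h_o]
  exact mul_mem (o0_UO S _) (mul_mem (o1_UO S _) (mul_mem (o2_UO S _) (o3_UO S _)))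

theorem n2_conj_UO {x : G} (hx : x ∈ UO S) : S.n2 * x * S.n2⁻¹ ∈ UO S := by
  obtain ⟨a, b, c, d, rfl⟩ := hx
  have e : S.n2 * pU S a b c d * S.n2⁻¹ = (S.n2 * S.o 0 a * S.n2⁻¹) * ((S.n2 * S.o 1 b * S.n2⁻¹) *
    ((S.n2 * S.o 2 c * S.n2⁻¹) * (S.n2 * S.o 3 d * S.n2⁻¹))) := by unfold pU; group
  rw [e, S.n2_o, S.n2_o, S.n2_o, S.n2_o]
  exact mul_mem (o3_UO S a) (mul_mem (o2_UO S b) (mul_mem (o1_UO S c) (o0_UO S d)))

/-! ### `UO T` -/

theorem mem_UT {g : G} (hg : g ∈ UO S ⊔ S.T) : ∃ u ∈ UO S, ∃ t ∈ S.T, g = u * t :=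
  R2.decomp_aux (fun _ ht _ hu => T_conj_UO S ht hu) hg

theorem pow_UT {u t : G} (hu : u ∈ UO S) (ht : t ∈ S.T) (n : ℕ) : ∃ u' ∈ UO S, (u * t) ^ n = u' * t ^ n := by
  induction n with
  | zero => exact ⟨1, one_mem _, by simp⟩
  | succ n ih =>
    obtain ⟨u', hu', e⟩ := ih
    refine ⟨u' * (t ^ n * u * (t ^ n)⁻¹), mul_mem hu' (T_conj_UO S (pow_mem ht n) hu), ?_⟩
    rw [pow_succ, e, pow_succ]; group

theorem T_inf_J [Finite F] [Finite G] (hR : S.R.p = 2) {t : G} (ht : t ∈ S.T) (h : t ∈ J S.XZ 1 8) : t = 1 := by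
  obtain ⟨k, hk⟩ := two_J S hR (a := 1) (b := 8) (by norm_num) ⟨t, h⟩
  exact T_pow_two S ht (k := k) (congrArg Subtype.val hk)

/-- the elements of `2`-power order of `UO T` lie in `UO` -/
theorem two_UT [Finite F] [Finite G] (hR : S.R.p = 2) {g : G} (hg : g ∈ UO S ⊔ S.T) {k : ℕ} (hk : g ^ (2 ^ k) = 1) :
    g ∈ UO S := by
  obtain ⟨u, hu, t, ht, rfl⟩ := mem_UT S hg
  obtain ⟨u', hu', e⟩ := pow_UT S hu ht (2 ^ k)
  rw [hk] at e
  have h1 : t ^ (2 ^ k) = u'⁻¹ := eq_inv_of_mul_eq_one_right e.symm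
  have h2 : t ^ (2 ^ k) = 1 := T_inf_J S hR (pow_mem ht _) (by rw [h1]; exact UO_le_J18 S (inv_mem hu'))
  have h3 := T_pow_two S ht h2
  rw [h3, mul_one]
  exact hu

/-! ### the Bruhat decomposition of `M` -/

theorem mem_XZ_nat {k : ℕ} {x : G} : x ∈ S.XZ (2 * (k : ℤ) - 1) ↔ ∃ t, S.o ((k : ZMod 8) - 1) t = x := by
  have h := S.mem_XZ_odd ((k : ℤ) - 1) x
  rw [show 2 * ((k : ℤ) - 1) + 1 = 2 * (k : ℤ) - 1 by ring] at h
  rw [h]
  push_cast
  rfl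

theorem T_of_maps {n n' : G} {e : ZMod (2 * 8)} (h : Maps S.R.X n (fun k => e - k))
    (h' : Maps S.R.X n' (fun k => e - k)) : n⁻¹ * n' ∈ S.T := RGDZ.inv_mul_mem h h'

theorem rank_one (i : ℤ) {n : G} (hn : Maps S.R.X n (fun k => ((2 * i - 8 : ℤ) : ZMod (2 * 8)) - k)) {a : G}
    (ha : a ∈ S.XZ i) (ha1 : a ≠ 1) : ∃ x ∈ S.XZ (i - 8), ∃ h ∈ S.T, ∃ y ∈ S.XZ (i - 8), a = x * n * h * y := by
  obtain ⟨v, hv, v', hv', hr⟩ := S.zsys8.mu i a ha ha1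
  have h1 := Cfsg.Agent.H248.TwF4Over.maps_refl (S := S) hr
  have h2 := T_of_maps S hn h1
  refine ⟨v⁻¹, inv_mem hv, n⁻¹ * (v * a * v'), h2, v'⁻¹, inv_mem hv', by group⟩

theorem mX15 (t : F) : S.o 7 t ∈ S.XZ (-1) := by
  have h := S.o_mem (-1) t
  have e : ((-1 : ℤ) : ZMod 8) = 7 := by decide
  rwa [e, show (2 : ℤ) * (-1) + 1 = -1 by norm_num] at h

/-- the root datum of `M` -/
noncomputable def r2 : R2 4 G where
  X k := S.XZ (2 * (k : ℤ) - 1)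
  XI' := S.XZ 9
  XJ' := S.XZ (-1)
  H := S.T
  nI := S.n1
  nJ := mJ S
  one_le := by norm_num
  comm := by
    intro k l h1 h2 h3 x hx y hy
    obtain ⟨s, rfl⟩ := (mem_XZ_nat S).1 hx
    obtain ⟨t, rfl⟩ := (mem_XZ_nat S).1 hy
    have hl : l = 2 ∨ l = 3 ∨ l = 4 := by omega
    rcases hl with rfl | rfl | rfl
    · obtain rfl : k = 1 := by omega
      have e : S.o 0 s * S.o 1 t = S.o 1 t * S.o 0 s := S.o_o1 0 s t
      have : ⁅S.o ((1 : ℕ) - 1 : ZMod 8) s, S.o ((2 : ℕ) - 1 : ZMod 8) t⁆ = 1 := commutatorElement_eq_one_iff_mul_comm.2 e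
      rw [this]; exact one_mem _
    · interval_cases k
      · have e : S.o 0 s * S.o 2 t = S.o 2 t * S.o 0 s := S.o_o2 0 s t
        have : ⁅S.o ((1 : ℕ) - 1 : ZMod 8) s, S.o ((3 : ℕ) - 1 : ZMod 8) t⁆ = 1 := commutatorElement_eq_one_iff_mul_comm.2 e
        rw [this]; exact one_mem _
      · have e : S.o 1 s * S.o 2 t = S.o 2 t * S.o 1 s := S.o_o1 1 s t
        have : ⁅S.o ((2 : ℕ) - 1 : ZMod 8) s, S.o ((3 : ℕ) - 1 : ZMod 8) t⁆ = 1 := commutatorElement_eq_one_iff_mul_comm.2 e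
        rw [this]; exact one_mem _
    · interval_cases k
      · have e : S.o 0 s * S.o 3 t = S.o 3 t * S.o 0 s * S.o 1 (σ s * t) * S.o 2 (s * σ t) := S.o_o3 0 s t
        have e2 : ⁅S.o ((1 : ℕ) - 1 : ZMod 8) s, S.o ((4 : ℕ) - 1 : ZMod 8) t⁆ = S.o 1 (σ s * t) * S.o 2 (s * σ t) := by
          show ⁅S.o 0 s, S.o 3 t⁆ = _
          rw [commutatorElement_def, o_inv S, o_inv S]
          have h30 := o3_o0 S t s
          have e3 : S.o 0 s * S.o 3 t * S.o 0 s * S.o 3 t = S.o 0 s * (S.o 3 t * S.o 0 s) * S.o 3 t := by group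
          rw [e3, h30]
          have e4 : S.o 0 s * (S.o 0 s * (S.o 1 (σ s * t) * (S.o 2 (s * σ t) * S.o 3 t))) * S.o 3 t =
            (S.o 0 s * S.o 0 s) * (S.o 1 (σ s * t) * S.o 2 (s * σ t)) * (S.o 3 t * S.o 3 t) := by group
          rw [e4, o_sq S, o_sq S, one_mul, mul_one]
        rw [e2]
        refine mul_mem ?_ ?_
        · exact (le_iSup₂_of_le (f := fun (r : ℕ) (_ : r ∈ Set.Ioo 1 4) => S.XZ (2 * (r : ℤ) - 1)) 2 ⟨by norm_num, by norm_num⟩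
            le_rfl) (S.mX3 _)
        · exact (le_iSup₂_of_le (f := fun (r : ℕ) (_ : r ∈ Set.Ioo 1 4) => S.XZ (2 * (r : ℤ) - 1)) 3 ⟨by norm_num, by norm_num⟩
            le_rfl) (S.mX5 _)
      · have e : S.o 1 s * S.o 3 t = S.o 3 t * S.o 1 s := S.o_o2 1 s t
        have : ⁅S.o ((2 : ℕ) - 1 : ZMod 8) s, S.o ((4 : ℕ) - 1 : ZMod 8) t⁆ = 1 := commutatorElement_eq_one_iff_mul_comm.2 e
        rw [this]; exact one_mem _
      · have e : S.o 2 s * S.o 3 t = S.o 3 t * S.o 2 s := S.o_o1 2 s t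
        have : ⁅S.o ((3 : ℕ) - 1 : ZMod 8) s, S.o ((4 : ℕ) - 1 : ZMod 8) t⁆ = 1 := commutatorElement_eq_one_iff_mul_comm.2 e
        rw [this]; exact one_mem _
  HX := fun h hh k _ _ x hx => S.T_conj hh _ hx
  nI_X := by
    intro k h1 h2 x hx
    have := (S.n1_maps ((2 * (k : ℤ) - 1 : ℤ) : ZMod (2 * 8)) x).2 hx
    show S.n1 * x * S.n1⁻¹ ∈ S.R.X _
    convert this using 2
    rw [Nat.cast_sub (by omega)]
    push_cast
    ring
  nJ_X := by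
    intro k h1 h2 x hx
    have := (mJ_maps S ((2 * (k : ℤ) - 1 : ℤ) : ZMod (2 * 8)) x).2 hx
    show mJ S * x * (mJ S)⁻¹ ∈ S.R.X _
    convert this using 2
    rw [Nat.cast_sub (by omega)]
    push_cast
    ring
  nI_pos := fun x hx => (S.n1_maps _ x).2 hx
  nI_neg := fun x hx => (S.n1_maps _ x).2 hx
  nJ_pos := fun x hx => by
    have h := (mJ_maps S _ x).2 hx
    have e : (((-1 : ℤ)) : ZMod (2 * 8)) = 6 - ((2 * ((4 : ℕ) : ℤ) - 1 : ℤ) : ZMod (2 * 8)) := by decide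
    show _ ∈ S.R.X _
    rw [e]; exact h
  nJ_neg := fun x hx => by
    have h := (mJ_maps S _ x).2 hx
    have e : ((2 * ((4 : ℕ) : ℤ) - 1 : ℤ) : ZMod (2 * 8)) = 6 - (((-1 : ℤ)) : ZMod (2 * 8)) := by decide
    show _ ∈ S.R.X _
    rw [e]; exact h
  nI_sq := by rw [S.n1_sq]; exact one_mem _
  nJ_sq := by rw [mJ_sq]; exact one_mem _
  nI_H := fun h hh => RGDZ.conj_mem S.n1_maps hh
  nJ_H := fun h hh => RGDZ.conj_mem (mJ_maps S) hh
  rank_oneI := fun a ha ha1 => rank_one S 9 S.n1_maps ha ha1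
  rank_oneJ := fun a ha ha1 => by
    have h : S.XZ (-1) = S.XZ 15 := rfl
    rw [h] at ha
    exact rank_one S 15 (mJ_maps S) ha ha1
  memI := by
    rw [S.n1_word]
    exact mul_mem (mul_mem (Subgroup.mem_sup_left (S.mX1 1)) (Subgroup.mem_sup_right (S.mX9 1)))
      (Subgroup.mem_sup_left (S.mX1 1))
  memJ := by
    rw [mJ_word]
    have h7 := mX15 S 1
    exact mul_mem (mul_mem (Subgroup.mem_sup_right h7) (Subgroup.mem_sup_left (S.mX7 1)))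
      (Subgroup.mem_sup_right h7)
  braid := by
    have hA : Maps S.R.X (alt S.n1 (mJ S) 4) (fun k => 8 + k) :=
      (((S.n1_maps).mul ((mJ_maps S).mul ((S.n1_maps).mul ((mJ_maps S).mul Maps.one))))).congr fun k => by
        show 10 - (6 - (10 - (6 - k))) = 8 + k
        ring
    have hB : Maps S.R.X (alt (mJ S) S.n1 4) (fun k => 8 + k) :=
      (((mJ_maps S).mul ((S.n1_maps).mul ((mJ_maps S).mul ((S.n1_maps).mul Maps.one))))).congr fun k => by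
        show 6 - (10 - (6 - (10 - k))) = 8 + k
        have : (16 : ZMod (2 * 8)) = 0 := rfl
        linear_combination -this
    have hB' : Maps S.R.X (alt (mJ S) S.n1 4)⁻¹ (fun k => 8 + k) := hB.inv fun k => by
      have : (16 : ZMod (2 * 8)) = 0 := rfl
      linear_combination this
    refine ⟨(alt (mJ S) S.n1 4)⁻¹ * alt S.n1 (mJ S) 4, ?_, by group⟩
    exact (hB'.mul hA).congr fun k => by
      show 8 + (8 + k) = k
      have : (16 : ZMod (2 * 8)) = 0 := rfl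
      linear_combination this

/-- `w` acts on the root groups as an element of the Weyl group of `M` -/
def IsW4 (w : G) : Prop :=
  ∃ c : ℤ, Maps S.R.X w (fun k => ((4 * c : ℤ) : ZMod (2 * 8)) + k) ∨
    Maps S.R.X w (fun k => ((4 * c + 2 : ℤ) : ZMod (2 * 8)) - k)

variable {S} in
theorem IsW4.mul {w v : G} (hw : IsW4 S w) (hv : IsW4 S v) : IsW4 S (w * v) := by
  obtain ⟨c, hc | hc⟩ := hw <;> obtain ⟨d, hd | hd⟩ := hv
  · exact ⟨c + d, Or.inl ((hc.mul hd).congr fun k => by simp only [Function.comp]; push_cast; ring)⟩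
  · exact ⟨c + d, Or.inr ((hc.mul hd).congr fun k => by simp only [Function.comp]; push_cast; ring)⟩
  · exact ⟨c - d, Or.inr ((hc.mul hd).congr fun k => by simp only [Function.comp]; push_cast; ring)⟩
  · exact ⟨c - d, Or.inl ((hc.mul hd).congr fun k => by simp only [Function.comp]; push_cast; ring)⟩

theorem isW4_T {t : G} (ht : t ∈ S.T) : IsW4 S t :=
  ⟨0, Or.inl ((show Maps S.R.X t id from ht).congr fun k => by simp)⟩

theorem isW4_n1 : IsW4 S S.n1 := ⟨2, Or.inr (S.n1_maps.congr fun k => by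
  show 10 - k = ((4 * 2 + 2 : ℤ) : ZMod (2 * 8)) - k
  congr 1)⟩

theorem isW4_mJ : IsW4 S (mJ S) := ⟨1, Or.inr ((mJ_maps S).congr fun k => by
  show 6 - k = ((4 * 1 + 2 : ℤ) : ZMod (2 * 8)) - k
  congr 1)⟩

theorem isW4_alt (k : ℕ) : IsW4 S (alt S.n1 (mJ S) k) ∧ IsW4 S (alt (mJ S) S.n1 k) := by
  induction k with
  | zero => exact ⟨isW4_T S (one_mem _), isW4_T S (one_mem _)⟩
  | succ k ih => exact ⟨(isW4_n1 S).mul ih.2, (isW4_mJ S).mul ih.1⟩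

theorem r2_U_le : (r2 S).U ≤ UO S := by
  refine iSup₂_le fun k hk x hx => ?_
  obtain ⟨t, rfl⟩ := (mem_XZ_nat S).1 hx
  have hk' : k = 1 ∨ k = 2 ∨ k = 3 ∨ k = 4 := by have := hk.1; have := hk.2; omega
  rcases hk' with rfl | rfl | rfl | rfl
  · exact o0_UO S t
  · exact o1_UO S t
  · exact o2_UO S t
  · exact o3_UO S t

theorem le_r2 : MM S ≤ (r2 S).U ⊔ (r2 S).H ⊔ ((r2 S).XI' ⊔ (r2 S).XJ') := by
  set K := (r2 S).U ⊔ (r2 S).H ⊔ ((r2 S).XI' ⊔ (r2 S).XJ') with hK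
  have hU : (r2 S).U ≤ K := le_sup_left.trans le_sup_left
  have hX : ∀ k : ℕ, 1 ≤ k → k ≤ 4 → S.XZ (2 * (k : ℤ) - 1) ≤ K := fun k h1 h2 =>
    ((r2 S).X_le h1 h2).trans hU
  have h9 : S.XZ 9 ≤ K := (le_sup_left : (r2 S).XI' ≤ _).trans le_sup_right
  have h15 : S.XZ (-1) ≤ K := (le_sup_right : (r2 S).XJ' ≤ _).trans le_sup_right
  have h1 : S.n1 ∈ K := n1_mem_of S (hX 1 (by norm_num) (by norm_num)) h9
  have hJ : mJ S ∈ K := by
    rw [mJ_word]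
    exact mul_mem (mul_mem (h15 (mX15 S 1)) (hX 4 (by norm_num) (by norm_num) (S.mX7 1))) (h15 (mX15 S 1))
  have a0 : ∀ t, S.o 0 t ∈ K := fun t => hX 1 (by norm_num) (by norm_num) (S.mX1 t)
  have a1 : ∀ t, S.o 1 t ∈ K := fun t => hX 2 (by norm_num) (by norm_num) (S.mX3 t)
  have a2 : ∀ t, S.o 2 t ∈ K := fun t => hX 3 (by norm_num) (by norm_num) (S.mX5 t)
  have a3 : ∀ t, S.o 3 t ∈ K := fun t => hX 4 (by norm_num) (by norm_num) (S.mX7 t)
  have a4 : ∀ t, S.o 4 t ∈ K := fun t => h9 (S.mX9 t)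
  have a7 : ∀ t, S.o 7 t ∈ K := fun t => h15 (mX15 S t)
  have a5 : ∀ t, S.o 5 t ∈ K := fun t => by
    have := S.n1_o 7 t
    rw [show (4 : ZMod 8) - 7 = 5 by decide] at this
    rw [← this]
    exact mul_mem (mul_mem h1 (a7 t)) (inv_mem h1)
  have a6 : ∀ t, S.o 6 t ∈ K := fun t => by
    have := mJ_o S 4 t
    rw [show (2 : ZMod 8) - 4 = 6 by decide] at this
    rw [← this]
    exact mul_mem (mul_mem hJ (a4 t)) (inv_mem hJ)
  refine MM_le fun a t => ?_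
  fin_cases a
  · exact a0 t
  · exact a1 t
  · exact a2 t
  · exact a3 t
  · exact a4 t
  · exact a5 t
  · exact a6 t
  · exact a7 t

/-- **Bruhat decomposition of `M`** -/
theorem bruhat_MM {g : G} (hg : g ∈ MM S) : ∃ b ∈ UO S, ∃ w, IsW4 S w ∧ ∃ b' ∈ UO S, g = b * w * b' := by
  have hl : (r2 S).U ⊔ (r2 S).H ≤ UO S ⊔ S.T := sup_le_sup (r2_U_le S) le_rfl
  obtain ⟨b, hb, k, -, b', hb', h⟩ := (r2 S).bruhat (le_r2 S hg)
  obtain ⟨u, hu, t, ht, rfl⟩ := mem_UT S (hl hb)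
  obtain ⟨u', hu', t', ht', rfl⟩ := mem_UT S (hl hb')
  have h1 : t'⁻¹ * u' * t' ∈ UO S := by
    have := T_conj_UO S (inv_mem ht') hu'
    rwa [inv_inv] at this
  rcases h with rfl | rfl
  · exact ⟨u, hu, t * alt S.n1 (mJ S) k * t', ((isW4_T S ht).mul (isW4_alt S k).1).mul (isW4_T S ht'),
      t'⁻¹ * u' * t', h1, by show u * t * alt S.n1 (mJ S) k * (u' * t') = _; group⟩
  · exact ⟨u, hu, t * alt (mJ S) S.n1 k * t', ((isW4_T S ht).mul (isW4_alt S k).2).mul (isW4_T S ht'),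
      t'⁻¹ * u' * t', h1, by show u * t * alt (mJ S) S.n1 k * (u' * t') = _; group⟩

/-! ### consequences -/

/-- a `T`-invariant subgroup that meets the root groups of a window trivially meets the window trivially -/
theorem eq_one_of_peel [Finite F] [Finite G] (hF : ∃ c : Fˣ, c ≠ 1) (hR : S.R.p = 2) {V : Subgroup G}
    (hT : ∀ t ∈ S.T, ∀ x ∈ V, t * x * t⁻¹ ∈ V) {a b : ℤ} (hb : b < a + 8)
    (h : ∀ k, a ≤ k → k ≤ b → ∀ x ∈ S.XZ k, x ∈ V → x = 1) {x : G} (hx : x ∈ J S.XZ a b) (hV : x ∈ V) : x = 1 := by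
  have key : ∀ n : ℕ, ∀ a : ℤ, b + 1 ≤ a + n → b < a + 8 → (∀ k, a ≤ k → k ≤ b → ∀ x ∈ S.XZ k, x ∈ V → x = 1) →
      ∀ x ∈ J S.XZ a b, x ∈ V → x = 1 := by
    intro n
    induction n with
    | zero => intro a h1 _ _ x hx _; exact eq_one_of_J hx (by push_cast at h1; omega)
    | succ n ih =>
      intro a h1 h2 h x hx hV
      rcases lt_or_ge b a with hlt | hab
      · exact eq_one_of_J hx hlt
      obtain ⟨x1, hx1, y, hy, rfl⟩ := S.zsys8.split_ll hab h2 hx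
      have h3 := peel S hF hR hT h2 hx1 hy hV
      have h4 := h a le_rfl hab x1 hx1 h3
      subst h4
      rw [one_mul] at hV ⊢
      exact ih (a + 1) (by push_cast at h1; omega) (by omega) (fun k hk1 hk2 => h k (by omega) hk2) y hy hV
  exact key (b + 1 - a).toNat a (by omega) hb h x hx hV

/-- `X_j` meets `J 1 8` trivially for `9 ≤ j ≤ 16` -/
theorem not_in_J [Finite F] [Finite G] (hF : ∃ c : Fˣ, c ≠ 1) (hR : S.R.p = 2) {j : ℤ} (h1 : 9 ≤ j) (h2 : j ≤ 16)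
    {x : G} (hx : x ∈ S.XZ j) (hx1 : x ≠ 1) (h : x ∈ J S.XZ 1 8) : False := by
  refine hx1 (eq_one_of_peel S hF hR (V := S.XZ j) (fun t ht x hx => S.T_conj ht j hx) (a := 1) (b := 8) (by norm_num)
    (fun k hk1 hk2 y hy hy' => ?_) h hx)
  refine S.X_inf (i := (k : ZMod (2 * 8))) (j := (j : ZMod (2 * 8))) (fun he => ?_) hy hy'
  have h3 : ((j - k : ℤ) : ZMod (2 * 8)) = 0 := by rw [Int.cast_sub, he, sub_self]
  rw [ZMod.intCast_zmod_eq_zero_iff_dvd] at h3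
  obtain ⟨m, hm⟩ := h3
  have hm' : j - k = 16 * m := by rw [hm]; norm_num
  omega

theorem four_cases (c : ℤ) : ((4 * c : ℤ) : ZMod (2 * 8)) = 0 ∨ ((4 * c : ℤ) : ZMod (2 * 8)) = 4 ∨
    ((4 * c : ℤ) : ZMod (2 * 8)) = 8 ∨ ((4 * c : ℤ) : ZMod (2 * 8)) = 12 := by
  have h16 : (16 : ZMod (2 * 8)) = 0 := rfl
  have e : c = 4 * (c / 4) + c % 4 := (Int.mul_ediv_add_emod c 4).symm
  have h : ((4 * c : ℤ) : ZMod (2 * 8)) = ((4 * (c % 4) : ℤ) : ZMod (2 * 8)) := by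
    conv_lhs => rw [e]
    push_cast
    linear_combination ((c / 4 : ℤ) : ZMod (2 * 8)) * h16
  rw [h]
  have h0 := Int.emod_nonneg c (by norm_num : (4 : ℤ) ≠ 0)
  have h1 := Int.emod_lt_of_pos c (by norm_num : (0 : ℤ) < 4)
  have h2 : c % 4 = 0 ∨ c % 4 = 1 ∨ c % 4 = 2 ∨ c % 4 = 3 := by omega
  rcases h2 with h2 | h2 | h2 | h2 <;> rw [h2]
  · left; decide
  · right; left; decide
  · right; right; left; decide
  · right; right; right; decide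

/-- an element of the Weyl group of `M` that maps `X_1, X_3, X_5, X_7` into `J 1 8` is in the torus -/
theorem W4_T [Finite F] [Finite G] (hF : ∃ c : Fˣ, c ≠ 1) (hR : S.R.p = 2) {w : G} (hw : IsW4 S w) (h : ∀ k : ℤ, k = 1 ∨ k = 3 ∨ k = 5 ∨ k = 7 → ∀ x ∈ S.XZ k,
    w * x * w⁻¹ ∈ J S.XZ 1 8) : w ∈ S.T := by
  have bad : ∀ k j : ℤ, k = 1 ∨ k = 3 ∨ k = 5 ∨ k = 7 → 9 ≤ j → j ≤ 16 →
      (∀ x ∈ S.XZ k, w * x * w⁻¹ ∈ S.XZ j) → False := by
    intro k j hk h1 h2 h3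
    obtain ⟨x, hx, hx1⟩ := S.zsys8.exists_ne k
    refine not_in_J S hF hR h1 h2 (h3 x hx) ?_ (h k hk x hx)
    intro h4
    rw [mul_inv_eq_one, mul_eq_left] at h4
    exact hx1 h4
  obtain ⟨c, hc | hc⟩ := hw
  · have hm : ∀ (k j : ℤ), ((4 * c : ℤ) : ZMod (2 * 8)) + (k : ZMod (2 * 8)) = (j : ZMod (2 * 8)) →
        ∀ x ∈ S.XZ k, w * x * w⁻¹ ∈ S.XZ j := fun k j he x hx => by
      have := (hc (k : ZMod (2 * 8)) x).2 hx
      show _ ∈ S.R.X (j : ZMod (2 * 8))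
      rw [← he]; exact this
    rcases four_cases c with h0 | h0 | h0 | h0
    · exact hc.congr fun k => by rw [h0]; exact zero_add k
    · exact (bad 5 9 (by norm_num) (by norm_num) (by norm_num) (hm 5 9 (by rw [h0]; decide))).elim
    · exact (bad 1 9 (by norm_num) (by norm_num) (by norm_num) (hm 1 9 (by rw [h0]; decide))).elim
    · exact (bad 1 13 (by norm_num) (by norm_num) (by norm_num) (hm 1 13 (by rw [h0]; decide))).elim
  · have hm : ∀ (k j : ℤ), ((4 * c : ℤ) : ZMod (2 * 8)) + 2 - (k : ZMod (2 * 8)) = (j : ZMod (2 * 8)) →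
        ∀ x ∈ S.XZ k, w * x * w⁻¹ ∈ S.XZ j := fun k j he x hx => by
      have := (hc (k : ZMod (2 * 8)) x).2 hx
      show _ ∈ S.R.X (j : ZMod (2 * 8))
      rw [← he]
      have e : ((4 * c + 2 : ℤ) : ZMod (2 * 8)) = ((4 * c : ℤ) : ZMod (2 * 8)) + 2 := by push_cast; ring
      rw [← e]; exact this
    rcases four_cases c with h0 | h0 | h0 | h0
    · exact (bad 3 15 (by norm_num) (by norm_num) (by norm_num) (hm 3 15 (by rw [h0]; decide))).elim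
    · exact (bad 7 15 (by norm_num) (by norm_num) (by norm_num) (hm 7 15 (by rw [h0]; decide))).elim
    · exact (bad 1 9 (by norm_num) (by norm_num) (by norm_num) (hm 1 9 (by rw [h0]; decide))).elim
    · exact (bad 1 13 (by norm_num) (by norm_num) (by norm_num) (hm 1 13 (by rw [h0]; decide))).elim

theorem X_le_UO {k : ℤ} (hk : k = 1 ∨ k = 3 ∨ k = 5 ∨ k = 7) : S.XZ k ≤ UO S := by
  intro x hx
  rcases hk with rfl | rfl | rfl | rfl
  · obtain ⟨t, rfl⟩ := S.X1 hx; exact o0_UO S t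
  · obtain ⟨t, rfl⟩ := S.X3 hx; exact o1_UO S t
  · obtain ⟨t, rfl⟩ := S.X5 hx; exact o2_UO S t
  · obtain ⟨t, rfl⟩ := S.X7 hx; exact o3_UO S t

/-- `M ∩ J 1 8 = UO` -/
theorem MM_inf [Finite F] [Finite G] (hF : ∃ c : Fˣ, c ≠ 1) (hR : S.R.p = 2) {g : G} (hg : g ∈ MM S) (hJ : g ∈ J S.XZ 1 8) : g ∈ UO S := by
  obtain ⟨b, hb, w, hw, b', hb', rfl⟩ := bruhat_MM S hg
  have hwJ : w ∈ J S.XZ 1 8 := by
    have h1 := mul_mem (mul_mem (inv_mem (UO_le_J18 S hb)) hJ) (inv_mem (UO_le_J18 S hb'))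
    have e : b⁻¹ * (b * w * b') * b'⁻¹ = w := by group
    rwa [e] at h1
  have hwT : w ∈ S.T := W4_T S hF hR hw fun k hk x hx =>
    mul_mem (mul_mem hwJ (UO_le_J18 S (X_le_UO S hk hx))) (inv_mem hwJ)
  rw [T_inf_J S hR hwT hwJ, mul_one]
  exact mul_mem hb hb'

/-- `N_M(UO) = UO T` -/
theorem norm_UO [Finite F] [Finite G] (hF : ∃ c : Fˣ, c ≠ 1) (hR : S.R.p = 2) {g : G} (hg : g ∈ MM S) (hN : ∀ x ∈ UO S, g * x * g⁻¹ ∈ UO S) : g ∈ UO S ⊔ S.T := by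
  obtain ⟨b, hb, w, hw, b', hb', rfl⟩ := bruhat_MM S hg
  have hwT : w ∈ S.T := W4_T S hF hR hw fun k hk x hx => by
    have hx' := X_le_UO S hk hx
    have h1 := hN (b'⁻¹ * x * b') (mul_mem (mul_mem (inv_mem hb') hx') hb')
    have h2 := mul_mem (mul_mem (inv_mem hb) h1) hb
    have e : b⁻¹ * ((b * w * b') * (b'⁻¹ * x * b') * (b * w * b')⁻¹) * b = w * x * w⁻¹ := by group
    rw [e] at h2
    exact UO_le_J18 S h2
  exact mul_mem (mul_mem (Subgroup.mem_sup_left hb) (Subgroup.mem_sup_right hwT)) (Subgroup.mem_sup_left hb')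

theorem X2_inf_UO {x : G} (hx : x ∈ S.XZ 2) (h : x ∈ UO S) : x = 1 := by
  have Z8 := S.zsys8
  obtain ⟨a, b, c, d, rfl⟩ := h
  have h2 : S.o 1 b * (S.o 2 c * S.o 3 d) ∈ J S.XZ 3 7 :=
    mul_mem (mem_J (S.mX3 b) (by norm_num) (by norm_num)) (mul_mem (mem_J (S.mX5 c) (by norm_num) (by norm_num))
      (mem_J (S.mX7 d) (by norm_num) (by norm_num)))
  have ha : S.o 0 a = 1 := Z8.inter 1 _ (S.mX1 a) (by
    have e : S.o 0 a = pU S a b c d * (S.o 1 b * (S.o 2 c * S.o 3 d))⁻¹ := by unfold pU; group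
    rw [e]
    exact mul_mem (mem_J hx (by norm_num) (by norm_num)) (inv_mem (J_mono (by norm_num) (by norm_num) h2)))
  unfold pU at hx ⊢
  rw [ha, one_mul] at hx ⊢
  exact Z8.inter 2 _ hx (J_mono (by norm_num) (by norm_num) h2)

theorem MM_ne_top [Finite F] [Finite G] (hF : ∃ c : Fˣ, c ≠ 1) (hR : S.R.p = 2) : MM S ≠ ⊤ := by
  intro h
  have h1 : S.e 1 0 1 ∈ MM S := by rw [h]; trivial
  have h3 := MM_inf S hF hR h1 (mem_J (S.mX2 0 1) (by norm_num) (by norm_num))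
  have h4 := (S.e_eq_one (X2_inf_UO S (S.mX2 0 1) h3)).2
  exact one_ne_zero h4

theorem UO_two [Finite F] [Finite G] (hR : S.R.p = 2) : IsPGroup 2 (UO S) :=
  (two_J S hR (a := 1) (b := 8) (by norm_num)).to_le (UO_le_J18 S)

/-! ### Sylow theory -/

/-- normaliser condition -/
theorem exists_norm {G : Type*} [Group G] [Finite G] {V P : Subgroup G} (hP : IsPGroup 2 P) (hVP : V ≤ P) (hne : V ≠ P) :
    ∃ g ∈ P, g ∉ V ∧ ∀ x, x ∈ V ↔ g * x * g⁻¹ ∈ V := by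
  have hlt : V < P := lt_of_le_of_ne hVP hne
  have hfact : Fact (Nat.Prime 2) := ⟨Nat.prime_two⟩
  have hnil : Group.IsNilpotent P := hP.isNilpotent
  have hnc := (Group.normalizerCondition_of_isNilpotent (G := P)) (V.subgroupOf P)
    (lt_top_iff_ne_top.2 fun h => by
      rw [Subgroup.subgroupOf_eq_top] at h
      exact absurd h (not_le_of_gt hlt))
  obtain ⟨g, hgN, hgU⟩ := SetLike.exists_of_lt hnc
  refine ⟨g, g.2, hgU, fun x => ⟨fun hx => ?_, fun hx => ?_⟩⟩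
  · have h1 := (Subgroup.mem_normalizer_iff.1 hgN ⟨x, hVP hx⟩).1 hx
    exact h1
  · have hxP : x ∈ P := by
      have h2 := hVP hx
      have e : x = (g : G)⁻¹ * ((g : G) * x * (g : G)⁻¹) * g := by group
      rw [e]
      exact mul_mem (mul_mem (inv_mem g.2) h2) g.2
    exact (Subgroup.mem_normalizer_iff.1 hgN ⟨x, hxP⟩).2 hx

open scoped Pointwise in
/-- `V` is a Sylow `2`-subgroup of `M` when the `2`-elements of `N_M(V)` are in `V` -/
theorem exists_conj_le {G : Type*} [Group G] [Finite G] {M V : Subgroup G} (hVM : V ≤ M) (hV : IsPGroup 2 V)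
    (hmax : ∀ g ∈ M, (∀ x ∈ V, g * x * g⁻¹ ∈ V) → ∀ k : ℕ, g ^ (2 ^ k) = 1 → g ∈ V) {Q : Subgroup G}
    (hQ : IsPGroup 2 Q) (hQM : Q ≤ M) : ∃ m ∈ M, ∀ x ∈ Q, m * x * m⁻¹ ∈ V := by
  have hfact : Fact (Nat.Prime 2) := ⟨Nat.prime_two⟩
  have hVs : IsPGroup 2 (V.subgroupOf M) := hV.of_equiv (Subgroup.subgroupOfEquivOfLe hVM).symm
  obtain ⟨P, hP⟩ := hVs.exists_le_sylow
  have hPV : (P : Subgroup M) = V.subgroupOf M := by
    by_contra hne
    obtain ⟨g, hgP, hgV, hg⟩ := exists_norm P.2 hP (fun h => hne h.symm)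
    obtain ⟨k, hk⟩ := P.2 ⟨g, hgP⟩
    refine hgV (hmax g g.2 (fun x hx => (hg ⟨x, hVM hx⟩).1 hx) k ?_)
    have := congrArg (fun y : (P : Subgroup M) => ((y : M) : G)) hk
    simpa using this
  have hQs : IsPGroup 2 (Q.subgroupOf M) := hQ.of_equiv (Subgroup.subgroupOfEquivOfLe hQM).symm
  obtain ⟨P', hP'⟩ := hQs.exists_le_sylow
  obtain ⟨k, hk⟩ := MulAction.exists_smul_eq M P' P
  refine ⟨k, k.2, fun x hx => ?_⟩
  have h1 : (⟨x, hQM hx⟩ : M) ∈ (P' : Subgroup M) := hP' hx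
  have h2 : k * ⟨x, hQM hx⟩ * k⁻¹ ∈ ((MulAut.conj k • (P' : Subgroup M) : Subgroup M)) :=
    Subgroup.smul_mem_pointwise_smul _ (MulAut.conj k) _ h1
  have h3 : (MulAut.conj k • (P' : Subgroup M) : Subgroup M) = (P : Subgroup M) := by rw [← hk]; rfl
  rw [h3, hPV] at h2
  exact h2

/-- **`UO` is a Sylow `2`-subgroup of every `M₀` with `UO ≤ M₀ ≤ M`** -/
theorem conj_UO [Finite F] [Finite G] (hF : ∃ c : Fˣ, c ≠ 1) (hR : S.R.p = 2) {M₀ : Subgroup G} (hM₀ : M₀ ≤ MM S)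
    (hU : UO S ≤ M₀) {Q : Subgroup G} (hQ : IsPGroup 2 Q) (hQM : Q ≤ M₀) : ∃ m ∈ M₀, ∀ x ∈ Q, m * x * m⁻¹ ∈ UO S :=
  exists_conj_le hU (UO_two S hR) (fun _ hg hn _ hk => two_UT S hR (norm_UO S hF hR (hM₀ hg) hn) hk) hQ hQM

end Cfsg.Agent.H136.TwF
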