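import Cfsg.Agent.H136.TwF.MM
import Cfsg.Agent.KFacts.TwF4.Layers
import Cfsg.Agent.H187.TwF4Par

/-!
# The normaliser of `UO = X_1X_3X_5X_7` in `²F₄(q)` (helper136, task 629)

* `isC`, `conj_isC` : the elements `o1(a)o2(b)`, `ab ≠ 0`, are the non-trivial commutators of involutions of `UO`;
* `type` : an element of `N(UO)` normalises `X_3` and `X_5` or interchanges them;
* `type_one` : an element of the first type is in `J 1 8 * T`;
* `norm_le_P` : `N(UO) ≤ N(Z_4)`.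
-/

set_option autoImplicit false
set_option linter.unusedSectionVars false

namespace Cfsg.Agent.H136.TwF

open Cfsg.Agent.KFacts.TwF4 Cfsg.Agent.KFacts.TwF4.Full Cfsg.Agent.KFacts.TwF4.Arc
open Cfsg.Agent.KFacts.TwF4.Inv Cfsg.Agent.KFacts.TwF4.SylU Cfsg.Agent.KFacts.TwF4.Perf
open Cfsg.Agent.SplitTwo Cfsg.Agent.SplitTwo.ZS Cfsg.Agent.TitsThree.RankTwoZ Cfsg.Agent.TitsThree.RankTwoRGD
open Cfsg.Agent.SplitTwo.RootSysZ
open Cfsg.Agent.H392.TwFFour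
open scoped commutatorElement

universe u

variable {F : Type*} [Field F] {σ : F →+* F} {G : Type u} [Group G] (S : Full σ G)

include S in
theorem add_eq_zero' {x y : F} (h : x + y = 0) : x = y := by
  rw [eq_neg_of_add_eq_zero_left h, neg_eq_of_add_eq_zero_left (char2 S y)]

theorem o1_pU (t : F) : S.o 1 t = pU S 0 t 0 0 := by
  unfold pU; rw [S.o_zero, S.o_zero, S.o_zero, one_mul, one_mul, mul_one]
theorem o2_pU (t : F) : S.o 2 t = pU S 0 0 t 0 := by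
  unfold pU; rw [S.o_zero, S.o_zero, S.o_zero, one_mul, one_mul, mul_one]
theorem o0_pU (t : F) : S.o 0 t = pU S t 0 0 0 := by
  unfold pU; rw [S.o_zero, S.o_zero, S.o_zero, one_mul, one_mul, mul_one]
theorem o3_pU (t : F) : S.o 3 t = pU S 0 0 0 t := by
  unfold pU; rw [S.o_zero, S.o_zero, S.o_zero, one_mul, one_mul, one_mul]
theorem o12_pU (a b : F) : S.o 1 a * S.o 2 b = pU S 0 a b 0 := by
  rw [o1_pU, o2_pU, pU_mul]; simp

/-- the non-trivial commutators of involutions of `UO` -/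
theorem isC_of {x y z : G} (hx : x ∈ UO S) (hy : y ∈ UO S) (hx2 : x * x = 1) (hy2 : y * y = 1) (h : x * y = y * x * z)
    (hz : z ≠ 1) : ∃ a b, a ≠ 0 ∧ b ≠ 0 ∧ z = S.o 1 a * S.o 2 b := by
  obtain ⟨a, b, c, d, rfl⟩ := hx
  obtain ⟨a', b', c', d', rfl⟩ := hy
  have h1 : a = 0 ∨ d = 0 := by
    rw [pU_mul] at hx2
    have := (pU_eq_one S hx2).2.1
    rw [char2 S, zero_add] at this
    rcases mul_eq_zero.1 this with h | h
    · exact Or.inl ((map_eq_zero σ).1 h)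
    · exact Or.inr h
  have h2 : a' = 0 ∨ d' = 0 := by
    rw [pU_mul] at hy2
    have := (pU_eq_one S hy2).2.1
    rw [char2 S, zero_add] at this
    rcases mul_eq_zero.1 this with h | h
    · exact Or.inl ((map_eq_zero σ).1 h)
    · exact Or.inr h
  have h3 : z = pU S 0 (σ a * d' + σ a' * d) (a * σ d' + a' * σ d) 0 := by
    have h4 : pU S a' b' c' d' * pU S a b c d * pU S 0 (σ a * d' + σ a' * d) (a * σ d' + a' * σ d) 0 =
        pU S a b c d * pU S a' b' c' d' := by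
      rw [pU_mul, pU_mul, pU_mul]
      simp only [add_zero, zero_mul, map_zero]
      have e1 : b' + b + σ a * d' + (σ a * d' + σ a' * d) = b + b' + σ a' * d + (σ a * d' + σ a * d') := by ring
      have e2 : c' + c + a * σ d' + (a * σ d' + a' * σ d) = c + c' + a' * σ d + (a * σ d' + a * σ d') := by ring
      rw [e1, e2, char2 S, char2 S, add_zero, add_zero, add_comm a' a, add_comm d' d]
    rw [← h4] at h
    exact (mul_left_cancel h).symm
  have key : ∀ s t : F, z = pU S 0 (σ s * t) (s * σ t) 0 → ∃ a b, a ≠ 0 ∧ b ≠ 0 ∧ z = S.o 1 a * S.o 2 b := by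
    intro s t hz'
    have hs : s ≠ 0 := by
      rintro rfl
      rw [map_zero, zero_mul, zero_mul, pU_zero] at hz'
      exact hz hz'
    have ht : t ≠ 0 := by
      rintro rfl
      rw [map_zero, mul_zero, mul_zero, pU_zero] at hz'
      exact hz hz'
    exact ⟨_, _, mul_ne_zero ((map_ne_zero σ).2 hs) ht, mul_ne_zero hs ((map_ne_zero σ).2 ht), by rw [hz', o12_pU]⟩
  rcases h1 with rfl | rfl
  · rcases h2 with rfl | rfl
    · simp only [map_zero, zero_mul, add_zero] at h3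
      rw [pU_zero] at h3
      exact (hz h3).elim
    · simp only [map_zero, mul_zero, zero_add] at h3
      exact key _ _ h3
  · rcases h2 with rfl | rfl
    · simp only [map_zero, add_zero, mul_zero] at h3
      exact key _ _ h3
    · simp only [map_zero, mul_zero, add_zero] at h3
      rw [pU_zero] at h3
      exact (hz h3).elim

theorem isC_ex [Finite F] {a b : F} (ha : a ≠ 0) (hb : b ≠ 0) : ∃ x ∈ UO S, ∃ y ∈ UO S, x * x = 1 ∧ y * y = 1 ∧
    x * y = y * x * (S.o 1 a * S.o 2 b) := by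
  -- `σ s * t = a`, `s * σ t = b`
  obtain ⟨s, hs⟩ := σ_surj σ (a * a * (σ b)⁻¹)
  have hσb : σ b ≠ 0 := (map_ne_zero σ).2 hb
  have hs0 : s ≠ 0 := by
    rintro rfl
    rw [map_zero] at hs
    exact mul_ne_zero (mul_ne_zero ha ha) (inv_ne_zero hσb) hs.symm
  have hσs : σ s ≠ 0 := (map_ne_zero σ).2 hs0
  set t := a * (σ s)⁻¹ with ht
  have h1 : σ s * t = a := by rw [ht]; field_simp
  have h2 : s * σ t = b := by
    apply σ.injective
    rw [map_mul, S.sq, hs, ht, hs]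
    field_simp
  refine ⟨S.o 0 s, o0_UO S s, S.o 3 t, o3_UO S t, o_sq S _ _, o_sq S _ _, ?_⟩
  have h3 := o3_o0 S t s
  rw [h1, h2] at h3
  have h4 := S.o_o3 0 s t
  rw [h1, h2] at h4
  rw [← mul_assoc]
  exact h4

variable {S}

/-- an element of `N(UO)` permutes the non-trivial commutators of involutions -/
theorem conj_isC [Finite F] {g : G} (hg : g ∈ Subgroup.normalizer (UO S : Set G)) {a b : F} (ha : a ≠ 0) (hb : b ≠ 0) :
    ∃ a' b', a' ≠ 0 ∧ b' ≠ 0 ∧ g * (S.o 1 a * S.o 2 b) * g⁻¹ = S.o 1 a' * S.o 2 b' := by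
  obtain ⟨x, hx, y, hy, hx2, hy2, h⟩ := isC_ex S ha hb
  have hc : ∀ x ∈ UO S, g * x * g⁻¹ ∈ UO S := fun x hx => (Subgroup.mem_normalizer_iff.1 hg x).1 hx
  refine isC_of S (hc x hx) (hc y hy) ?_ ?_ ?_ ?_
  · calc g * x * g⁻¹ * (g * x * g⁻¹) = g * (x * x) * g⁻¹ := by group
      _ = 1 := by rw [hx2]; group
  · calc g * y * g⁻¹ * (g * y * g⁻¹) = g * (y * y) * g⁻¹ := by group
      _ = 1 := by rw [hy2]; group
  · calc g * x * g⁻¹ * (g * y * g⁻¹) = g * (x * y) * g⁻¹ := by group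
      _ = _ := by rw [h]; group
  · intro h1
    rw [mul_inv_eq_one, mul_eq_left, o12_pU] at h1
    exact ha (pU_eq_one S h1).2.1

/-- the centre of `UO` -/
theorem center_UO {z : G} (hz : z ∈ UO S) (hc : ∀ x ∈ UO S, x * z = z * x) : ∃ a b, z = S.o 1 a * S.o 2 b := by
  obtain ⟨a, b, c, d, rfl⟩ := hz
  have h0 := hc _ (o0_UO S 1)
  have h3 := hc _ (o3_UO S 1)
  rw [o0_pU, pU_mul, pU_mul] at h0
  rw [o3_pU, pU_mul, pU_mul] at h3
  have hd : d = 0 := by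
    have := (pU_inj S h0).2.1
    simp only [mul_zero, add_zero, zero_add, map_one, one_mul] at this
    exact (left_eq_add.1 this)
  have ha : a = 0 := by
    have := (pU_inj S h3).2.2.1
    simp only [zero_mul, add_zero, zero_add, map_one, mul_one] at this
    have h5 : c + a = c := this
    exact (left_eq_add.1 h5.symm)
  subst ha hd
  exact ⟨b, c, (o12_pU S b c).symm⟩

theorem conj_center {g : G} (hg : g ∈ Subgroup.normalizer (UO S : Set G)) (a b : F) :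
    ∃ a' b', g * (S.o 1 a * S.o 2 b) * g⁻¹ = S.o 1 a' * S.o 2 b' := by
  have hz : S.o 1 a * S.o 2 b ∈ UO S := mul_mem (o1_UO S a) (o2_UO S b)
  refine center_UO ((Subgroup.mem_normalizer_iff.1 hg _).1 hz) fun x hx => ?_
  have hx' : g⁻¹ * x * g ∈ UO S := by
    have h1 := (Subgroup.mem_normalizer_iff.1 (inv_mem hg) x).1 hx
    rwa [inv_inv] at h1
  have h2 : (g⁻¹ * x * g) * (S.o 1 a * S.o 2 b) = (S.o 1 a * S.o 2 b) * (g⁻¹ * x * g) := by
    obtain ⟨a', b', c', d', e⟩ := hx'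
    rw [← e, o12_pU, pU_mul, pU_mul]
    simp only [map_zero, zero_mul, mul_zero, add_zero, zero_add]
    rw [add_comm b' a, add_comm c' b]
  calc x * (g * (S.o 1 a * S.o 2 b) * g⁻¹) = g * ((g⁻¹ * x * g) * (S.o 1 a * S.o 2 b)) * g⁻¹ := by group
    _ = _ := by rw [h2]; group

theorem o1_eq (a : F) : S.o 1 a = S.o 1 a * S.o 2 0 := by rw [S.o_zero, mul_one]
theorem o2_eq (a : F) : S.o 2 a = S.o 1 0 * S.o 2 a := by rw [S.o_zero, one_mul]

/-- an element of `N(UO)` maps `X_3 ∪ X_5` to itself -/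
theorem conj_o [Finite F] {g : G} (hg : g ∈ Subgroup.normalizer (UO S : Set G)) {j : ZMod 8} (hj : j = 1 ∨ j = 2) (t : F) :
    (∃ t', g * S.o j t * g⁻¹ = S.o 1 t') ∨ ∃ t', g * S.o j t * g⁻¹ = S.o 2 t' := by
  obtain ⟨a, b, e, hab⟩ : ∃ a b, S.o j t = S.o 1 a * S.o 2 b ∧ (a = 0 ∨ b = 0) := by
    rcases hj with rfl | rfl
    · exact ⟨t, 0, o1_eq t, Or.inr rfl⟩
    · exact ⟨0, t, o2_eq t, Or.inl rfl⟩
  obtain ⟨a', b', h⟩ := conj_center hg a b
  rw [e, h]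
  by_cases ha : a' = 0
  · exact Or.inr ⟨b', by rw [ha, S.o_zero, one_mul]⟩
  by_cases hb : b' = 0
  · exact Or.inl ⟨a', by rw [hb, S.o_zero, mul_one]⟩
  exfalso
  obtain ⟨a'', b'', ha'', hb'', h2⟩ := conj_isC (inv_mem hg) ha hb
  rw [← h] at h2
  have e2 : g⁻¹ * (g * (S.o 1 a * S.o 2 b) * g⁻¹) * g⁻¹⁻¹ = S.o 1 a * S.o 2 b := by group
  rw [e2, o12_pU, o12_pU] at h2
  obtain ⟨-, h3, h4, -⟩ := pU_inj S h2
  rcases hab with h5 | h5
  · exact ha'' (h3.symm.trans h5)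
  · exact hb'' (h4.symm.trans h5)

/-! ### the two types -/

variable (S) in
/-- `g X_{2i+1} g⁻¹ ≤ X_{2j+1}` -/
def Pr (g : G) (i j : ZMod 8) : Prop := ∀ t, ∃ t', g * S.o i t * g⁻¹ = S.o j t'

variable (S) in
/-- `g` normalises `X_3` and `X_5` -/
def Ty1 (g : G) : Prop := Pr S g 1 1 ∧ Pr S g 2 2

variable (S) in
/-- `g` interchanges `X_3` and `X_5` -/
def Ty2 (g : G) : Prop := Pr S g 1 2 ∧ Pr S g 2 1

theorem Pr.mul {g h : G} {i j k : ZMod 8} (hg : Pr S g j k) (hh : Pr S h i j) : Pr S (g * h) i k := by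
  intro t
  obtain ⟨t', h1⟩ := hh t
  obtain ⟨t'', h2⟩ := hg t'
  refine ⟨t'', ?_⟩
  rw [← h2, ← h1]; group

theorem Ty2.mul {g h : G} (hg : Ty2 S g) (hh : Ty2 S h) : Ty1 S (g * h) := ⟨hg.2.mul hh.1, hg.1.mul hh.2⟩

theorem ty2_n2 : Ty2 S S.n2 := ⟨fun t => ⟨t, S.n2_o 1 t⟩, fun t => ⟨t, S.n2_o 2 t⟩⟩

theorem dich [Finite F] {g : G} (hg : g ∈ Subgroup.normalizer (UO S : Set G)) {j : ZMod 8} (hj : j = 1 ∨ j = 2) :
    Pr S g j 1 ∨ Pr S g j 2 := by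
  by_contra hc
  rw [not_or] at hc
  obtain ⟨h1, h2⟩ := hc
  unfold Pr at h1 h2
  push Not at h1 h2
  obtain ⟨t1, h1⟩ := h1
  obtain ⟨t2, h2⟩ := h2
  obtain ⟨a, ha⟩ := (conj_o hg hj t1).resolve_left (fun ⟨t', h⟩ => h1 t' h)
  obtain ⟨b, hb⟩ := (conj_o hg hj t2).resolve_right (fun ⟨t', h⟩ => h2 t' h)
  have e : g * S.o j (t2 + t1) * g⁻¹ = S.o 1 b * S.o 2 a := by
    rw [← S.o_add, ← ha, ← hb]; group
  rcases conj_o hg hj (t2 + t1) with ⟨t', h⟩ | ⟨t', h⟩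
  · rw [e, o1_eq t', o12_pU, o12_pU] at h
    have h3 := (pU_inj S h).2.2.1
    subst h3
    exact h1 0 (by rw [ha, S.o_zero, S.o_zero])
  · rw [e, o2_eq t', o12_pU, o12_pU] at h
    have h3 := (pU_inj S h).2.1
    subst h3
    exact h2 0 (by rw [hb, S.o_zero, S.o_zero])

/-- **the two types of elements of `N(UO)`** -/
theorem type [Finite F] {g : G} (hg : g ∈ Subgroup.normalizer (UO S : Set G)) : Ty1 S g ∨ Ty2 S g := by
  have h1 : (1 : F) ≠ 0 := one_ne_zero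
  obtain ⟨a, b, ha, hb, h⟩ := conj_isC (S := S) hg h1 h1
  have e : g * (S.o 1 1 * S.o 2 1) * g⁻¹ = (g * S.o 1 1 * g⁻¹) * (g * S.o 2 1 * g⁻¹) := by group
  rw [e] at h
  rcases dich hg (j := 1) (Or.inl rfl) with h3 | h3 <;> rcases dich hg (j := 2) (Or.inr rfl) with h4 | h4
  · obtain ⟨x, hx⟩ := h3 1
    obtain ⟨y, hy⟩ := h4 1
    rw [hx, hy, S.o_add, o1_eq, o12_pU, o12_pU] at h
    exact (hb (pU_inj S h).2.2.1.symm).elim
  · exact Or.inl ⟨h3, h4⟩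
  · exact Or.inr ⟨h3, h4⟩
  · obtain ⟨x, hx⟩ := h3 1
    obtain ⟨y, hy⟩ := h4 1
    rw [hx, hy, S.o_add, o2_eq, o12_pU, o12_pU] at h
    exact (ha (pU_inj S h).2.1.symm).elim

theorem n2_norm : S.n2 ∈ Subgroup.normalizer (UO S : Set G) := by
  rw [Subgroup.mem_normalizer_iff]
  intro x
  refine ⟨fun hx => n2_conj_UO S hx, fun hx => ?_⟩
  have h := n2_conj_UO S hx
  have e : S.n2 * (S.n2 * x * S.n2⁻¹) * S.n2⁻¹ = x := by
    have h2 : S.n2⁻¹ = S.n2 := Arc.n2_inv S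
    rw [h2]
    calc S.n2 * (S.n2 * x * S.n2) * S.n2 = (S.n2 * S.n2) * x * (S.n2 * S.n2) := by group
      _ = x := by rw [S.n2_sq]; simp
  rwa [e] at h

/-- an element which maps an element of `X_5` into `X_5` normalises `Z_4Z_6` -/
theorem norm_W46 {g : G} {s s' : F} (hs : s ≠ 0) (h : g * S.o 2 s * g⁻¹ = S.o 2 s') {w : G} (hw : w ∈ S.W46) :
    g * w * g⁻¹ ∈ S.W46 := by
  have hs1 : S.o 2 s' ≠ 1 := fun h' => by
    rw [h', mul_inv_eq_one, mul_eq_left] at h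
    exact hs (S.o_eq_one h)
  have h1 : g * (1 * S.o 2 s) * g⁻¹ = 1 * S.o 2 s' := by rw [one_mul, one_mul, h]
  obtain ⟨y, hy, t, ht, rfl⟩ := S.parab_of_conj (one_mem _) (S.mX5 s) (one_mem _) (S.mX5 s') hs1 h1
  have e : y * t * w * (y * t)⁻¹ = y * (t * w * t⁻¹) * y⁻¹ := by group
  rw [e]
  exact S.W46_conj hy (S.T_conj_W46 ht hw)

/-- an element which maps an element of `X_3` into `X_3` normalises `Z_2Z_4` -/
theorem norm_W24 {g : G} {s s' : F} (hs : s ≠ 0) (h : g * S.o 1 s * g⁻¹ = S.o 1 s') {w : G} (hw : S.ck 1 w ∈ S.W46) :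
    S.ck 1 (g * w * g⁻¹) ∈ S.W46 := by
  rw [map_mul, map_mul, map_inv]
  refine norm_W46 hs (s' := s') ?_ hw
  have := congrArg (S.ck 1) h
  rw [map_mul, map_mul, map_inv, S.ck_o, S.ck_o] at this
  exact this

/-- the first type -/
theorem type_one [Finite F] {g : G} (h : Ty1 S g) : ∃ b ∈ J S.XZ 1 8, ∃ t ∈ S.T, g = b * t := by
  obtain ⟨s3, h3⟩ := h.1 1
  obtain ⟨s5, h5⟩ := h.2 1
  have hz : g * S.e 2 0 1 * g⁻¹ ∈ S.W46 := norm_W46 one_ne_zero h5 (S.Z4_W46 1)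
  have hz2 : S.ck 1 (g * S.e 2 0 1 * g⁻¹) ∈ S.W46 := norm_W24 one_ne_zero h3 (by
    rw [S.ck_e]; exact S.Z6_W46 1)
  have hgP : g ∈ P S := by
    refine mem_P_of S (z := S.e 2 0 1) ⟨1, rfl⟩ (e201 S).2 ?_
    obtain ⟨u, v, e⟩ := hz
    rw [← e] at hz2 ⊢
    obtain ⟨u', v', e'⟩ := hz2
    rw [map_mul, S.ck_e, S.ck_e] at e'
    -- `e3(0,u) e4(0,v) = e2(0,u') e3(0,v')`
    have e2 : S.e 2 0 u' * S.e 3 0 v' = S.e 3 0 u * S.e 4 0 v := e'
    have h4 : S.e 4 0 v = 1 := S.zsys8.inter' (k := 8) (S.mX8 0 v) (by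
      have : S.e 4 0 v = (S.e 3 0 u)⁻¹ * (S.e 2 0 u' * S.e 3 0 v') := by rw [e2]; group
      rw [this]
      exact mul_mem (inv_mem (mem_J (S.mX6 0 u) (by norm_num) (by norm_num)))
        (mul_mem (mem_J (S.mX4 0 u') (by norm_num) (by norm_num)) (mem_J (S.mX6 0 v') (by norm_num) (by norm_num))))
    have hv := (S.e_eq_one h4).2
    rw [hv, S.e_zero, mul_one]
    exact ⟨u, rfl⟩
  rcases form_P S hgP with h1 | ⟨b, hb, t, ht, x, hx, rfl⟩
  · exact h1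
  exfalso
  -- `n2` normalises `W46`
  have hW : ∀ w ∈ S.W46, b * (t * S.n2) * x * w * (b * (t * S.n2) * x)⁻¹ ∈ S.W46 := fun w hw =>
    norm_W46 one_ne_zero h5 hw
  have h1 := hW _ (S.W46_conj (inv_mem (mem_J hx (by norm_num) (by norm_num) : x ∈ J S.XZ 1 9)) (S.Z6_W46 1))
  have e1 : b * (t * S.n2) * x * (x⁻¹ * S.e 3 0 1 * x⁻¹⁻¹) * (b * (t * S.n2) * x)⁻¹ =
      b * (t * (S.n2 * S.e 3 0 1 * S.n2⁻¹) * t⁻¹) * b⁻¹ := by group
  rw [e1, S.n2_e] at h1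
  have hb9 : b⁻¹ ∈ J S.XZ 1 9 := inv_mem (J_mono le_rfl (by norm_num) hb)
  have h2 := S.T_conj_W46 (inv_mem ht) (S.W46_conj hb9 h1)
  have e3 : t⁻¹ * (b⁻¹ * (b * (t * S.e (4 - 3) 0 1 * t⁻¹) * b⁻¹) * b⁻¹⁻¹) * t⁻¹⁻¹ = S.e (4 - 3) 0 1 := by group
  rw [e3] at h2
  have h3 : S.e 1 0 1 = 1 := S.zsys8.inter 2 _ (S.mX2 0 1) (J_mono (by norm_num) (by norm_num) (S.W46_le h2))
  exact one_ne_zero (S.e_eq_one h3).2

theorem J18_le_P [Finite F] : J S.XZ 1 8 ≤ P S := (J_mono (by norm_num) le_rfl : _ ≤ S.PL).trans (PL_le_P S)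

theorem n2_mem_P [Finite F] : S.n2 ∈ P S := PL_le_P S S.n2_mem

/-- **`N(UO) ≤ N(Z_4)`** -/
theorem norm_le_P [Finite F] : Subgroup.normalizer (UO S : Set G) ≤ P S := by
  intro g hg
  have key : ∀ h, Ty1 S h → h ∈ P S := fun h hh => by
    obtain ⟨b, hb, t, ht, rfl⟩ := type_one hh
    exact mul_mem (J18_le_P hb) (T_le_P S ht)
  rcases type hg with h | h
  · exact key g h
  · have h1 := key (S.n2 * g) (ty2_n2.mul h)
    have h2 := mul_mem (inv_mem n2_mem_P) h1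
    rwa [inv_mul_cancel_left] at h2

/-- `N(Z_4)` normalises `J 1 7` -/
theorem P_norm [Finite F] {g x : G} (hg : g ∈ P S) (hx : x ∈ J S.XZ 1 7) : g * x * g⁻¹ ∈ J S.XZ 1 7 := by
  obtain ⟨hz, hz1⟩ := e201 S
  have hg' : g * S.e 2 0 1 * g⁻¹ ∈ S.Zc 2 := (Subgroup.mem_normalizer_iff.1 hg _).1 hz
  obtain ⟨y, hy, t, ht, rfl⟩ := S.mem_of_conj hz hz1 hg'
  have e : y * t * x * (y * t)⁻¹ = y * (t * x * t⁻¹) * y⁻¹ := by group
  rw [e]
  exact Q_norm S hy (S.T_conj_J ht hx)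

end Cfsg.Agent.H136.TwF
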