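import Cfsg.Agent.H136.TwF.NormU
import Cfsg.Agent.H99.CL2F4

/-!
# Overgroups of `M = ⟨X_odd⟩ ≅ Sp₄(q)` in `²F₄(q)`, `q ≥ 8` (helper136, task 629)

`Ov S K` : `M ≤ K ≠ ⊤`.
-/

set_option autoImplicit false
set_option linter.unusedSectionVars false

namespace Cfsg.Agent.H136.TwF

open Cfsg.Agent.KFacts.TwF4 Cfsg.Agent.KFacts.TwF4.Full Cfsg.Agent.KFacts.TwF4.Arc
open Cfsg.Agent.KFacts.TwF4.Inv Cfsg.Agent.KFacts.TwF4.SylU Cfsg.Agent.KFacts.TwF4.Perf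
open Cfsg.Agent.SplitTwo Cfsg.Agent.SplitTwo.ZS Cfsg.Agent.TitsThree.RankTwoZ Cfsg.Agent.TitsThree.RankTwoRGD
open Cfsg.Agent.SplitTwo.RootSysZ
open Cfsg.Agent.H392.TwFFour
open scoped commutatorElement

universe u

/-- an element of finite order normalises `V` when it maps `V` into itself -/
theorem norm_of_le {G : Type*} [Group G] [Finite G] {V : Subgroup G} {g : G} (h : ∀ x ∈ V, g * x * g⁻¹ ∈ V) :
    g ∈ Subgroup.normalizer (V : Set G) := by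
  have h1 : V.map (MulAut.conj g).toMonoidHom ≤ V := by
    rintro _ ⟨x, hx, rfl⟩
    exact h x hx
  have h2 : V.map (MulAut.conj g).toMonoidHom = V :=
    Subgroup.eq_of_le_of_card_ge h1 (by rw [Subgroup.card_map_of_injective (MulAut.conj g).injective])
  rw [Subgroup.mem_normalizer_iff]
  intro x
  refine ⟨h x, fun hx => ?_⟩
  rw [← h2] at hx
  obtain ⟨y, hy, e⟩ := hx
  have e' : g * y * g⁻¹ = g * x * g⁻¹ := e
  have : y = x := by
    have := mul_left_cancel (mul_right_cancel e')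
    exact this
  rw [← this]; exact hy

variable {F : Type*} [Field F] {σ : F →+* F} {G : Type u} [Group G] {S : Full σ G}

variable (S) in
/-- proper overgroups of `M` -/
structure Ov (K : Subgroup G) : Prop where
  le : MM S ≤ K
  ne : K ≠ ⊤

theorem MM_le_of_six {K : Subgroup G} (a0 : ∀ t, S.o 0 t ∈ K) (a1 : ∀ t, S.o 1 t ∈ K) (a2 : ∀ t, S.o 2 t ∈ K)
    (a3 : ∀ t, S.o 3 t ∈ K) (a4 : ∀ t, S.o 4 t ∈ K) (a7 : ∀ t, S.o 7 t ∈ K) : MM S ≤ K := by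
  have h1 : S.n1 ∈ K := by
    rw [S.n1_word]
    exact mul_mem (mul_mem (a0 1) (a4 1)) (a0 1)
  have hJ : mJ S ∈ K := by
    rw [mJ_word]
    exact mul_mem (mul_mem (a7 1) (a3 1)) (a7 1)
  have a5 : ∀ t, S.o 5 t ∈ K := fun t => by
    have := S.n1_o 7 t
    rw [show (4 : ZMod 8) - 7 = 5 by decide] at this
    rw [← this]
    exact mul_mem (mul_mem h1 (a7 t)) (inv_mem h1)
  have a6 : ∀ t, S.o 6 t ∈ K := fun t => by
    have := mJ_o S 4 t
    rw [show (2 : ZMod 8) - 4 = 6 by decide] at this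
    rw [← this]
    exact mul_mem (mul_mem hJ (a4 t)) (inv_mem hJ)
  refine MM_le fun a t => ?_
  fin_cases a
  · exact a0 t
  · exact a1 t
  · exact a2 t
  · exact a3 t
  · exact a4 t
  · exact a5 t
  · exact a6 t
  · exact a7 t

section

variable [Finite F] [Finite G] {K : Subgroup G}

theorem Ov.T_conj (hK : Ov S K) : ∀ t ∈ S.T, ∀ x ∈ K, t * x * t⁻¹ ∈ K := fun t ht x hx => by
  have h := hK.le (T_le_MM S ht)
  exact mul_mem (mul_mem h hx) (inv_mem h)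

/-- `K ∩ X_even = 1` -/
theorem Ov.e_one (hK : Ov S K) (hF : ∃ c : Fˣ, c ≠ 1) {a : ZMod 8} {p u : F} (h : S.e a p u ∈ K) : S.e a p u = 1 := by
  by_contra h1
  have hz : ∀ v, S.e a 0 v ∈ K := z_mem_of_e S hK.T_conj h1 h
  have p5 : ∀ b, (∀ v, S.e b 0 v ∈ K) → ∀ v, S.e (5 - b) 0 v ∈ K := fun b hb v => by
    rw [← S.n1_e]
    exact mul_mem (mul_mem (hK.le (n1_mem_MM S)) (hb v)) (inv_mem (hK.le (n1_mem_MM S)))
  have p3 : ∀ b, (∀ v, S.e b 0 v ∈ K) → ∀ v, S.e (3 - b) 0 v ∈ K := fun b hb v => by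
    rw [← mJ_e]
    exact mul_mem (mul_mem (hK.le (mJ_mem_MM S)) (hb v)) (inv_mem (hK.le (mJ_mem_MM S)))
  have p2 : ∀ b, (∀ v, S.e b 0 v ∈ K) → ∀ v, S.e (b + 2) 0 v ∈ K := fun b hb v => by
    have := p5 _ (p3 b hb) v
    rwa [show (5 : ZMod 8) - (3 - b) = b + 2 by ring] at this
  have all : ∀ a b : ZMod 8, b = a ∨ b = a + 2 ∨ b = a + 2 + 2 ∨ b = a + 2 + 2 + 2 ∨ b = 5 - a ∨ b = 5 - a + 2 ∨
      b = 5 - a + 2 + 2 ∨ b = 5 - a + 2 + 2 + 2 := by decide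
  refine hK.ne (Cfsg.Agent.H99.CL2F4.eq_top_of_ZO S hF (fun a t => hK.le (o_mem_MM S a t)) fun b u => ?_)
  rcases all a b with rfl | rfl | rfl | rfl | rfl | rfl | rfl | rfl
  · exact hz u
  · exact p2 _ hz u
  · exact p2 _ (p2 _ hz) u
  · exact p2 _ (p2 _ (p2 _ hz)) u
  · exact p5 _ hz u
  · exact p2 _ (p5 _ hz) u
  · exact p2 _ (p2 _ (p5 _ hz)) u
  · exact p2 _ (p2 _ (p2 _ (p5 _ hz))) u

/-- `K ∩ J 1 8 = UO` -/
theorem Ov.inf (hK : Ov S K) (hF : ∃ c : Fˣ, c ≠ 1) (hR : S.R.p = 2) {x : G} (hx : x ∈ K) (hJ : x ∈ J S.XZ 1 8) :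
    x ∈ UO S := by
  have Z8 := S.zsys8
  have odd : ∀ (a : ℤ) (x y : G), x ∈ S.XZ (2 * a + 1) → x * y ∈ K → y ∈ K := fun a x y h1 h2 => by
    have h3 := mul_mem (inv_mem (hK.le (XZ_le_MM S a h1))) h2
    rwa [inv_mul_cancel_left] at h3
  have even : ∀ (a : ℤ) (x y : G), 1 ≤ 2 * a → x ∈ S.XZ (2 * a) → y ∈ J S.XZ (2 * a + 1) 8 → x * y ∈ K → x = 1 := by
    intro a x y ha h1 h2 h3
    have h4 := peel S hF hR hK.T_conj (by omega) h1 h2 h3
    obtain ⟨p, u, rfl⟩ := (S.mem_XZ_even a x).1 h1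
    exact hK.e_one hF h4
  obtain ⟨x1, h1, y1, hy1, rfl⟩ := Z8.split_ll (by norm_num) (by norm_num) hJ
  have k1 := odd 0 x1 y1 h1 hx
  obtain ⟨x2, h2, y2, hy2, rfl⟩ := Z8.split_ll (by norm_num) (by norm_num) hy1
  obtain rfl := even 1 x2 y2 (by norm_num) h2 hy2 k1
  rw [one_mul] at k1
  obtain ⟨x3, h3, y3, hy3, rfl⟩ := Z8.split_ll (by norm_num) (by norm_num) hy2
  have k3 := odd 1 x3 y3 h3 k1
  obtain ⟨x4, h4, y4, hy4, rfl⟩ := Z8.split_ll (by norm_num) (by norm_num) hy3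
  obtain rfl := even 2 x4 y4 (by norm_num) h4 hy4 k3
  rw [one_mul] at k3
  obtain ⟨x5, h5, y5, hy5, rfl⟩ := Z8.split_ll (by norm_num) (by norm_num) hy4
  have k5 := odd 2 x5 y5 h5 k3
  obtain ⟨x6, h6, y6, hy6, rfl⟩ := Z8.split_ll (by norm_num) (by norm_num) hy5
  obtain rfl := even 3 x6 y6 (by norm_num) h6 hy6 k5
  rw [one_mul] at k5
  obtain ⟨x7, h7, y7, hy7, rfl⟩ := Z8.split_ll (by norm_num) (by norm_num) hy6
  have k7 := odd 3 x7 y7 h7 k5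
  obtain ⟨x8, h8, y8, hy8, rfl⟩ := Z8.split_ll (by norm_num) (by norm_num) hy7
  obtain rfl := even 4 x8 y8 (by norm_num) h8 hy8 k7
  have h9 : y8 = 1 := eq_one_of_J hy8 (by norm_num)
  subst h9
  rw [one_mul, one_mul, one_mul, one_mul, mul_one]
  exact mul_mem (X_le_UO S (Or.inl rfl) h1) (mul_mem (X_le_UO S (Or.inr (Or.inl rfl)) h3)
    (mul_mem (X_le_UO S (Or.inr (Or.inr (Or.inl rfl))) h5) (X_le_UO S (Or.inr (Or.inr (Or.inr rfl))) h7)))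

/-- `K ∩ N(Z_4) ≤ N(UO)` -/
theorem Ov.norm_of_P (hK : Ov S K) (hF : ∃ c : Fˣ, c ≠ 1) (hR : S.R.p = 2) {g : G} (hg : g ∈ K) (hP : g ∈ P S) :
    g ∈ Subgroup.normalizer (UO S : Set G) :=
  norm_of_le fun x hx => hK.inf hF hR (mul_mem (mul_mem hg (hK.le (UO_le_MM S hx))) (inv_mem hg))
    (J_mono le_rfl (by norm_num) (P_norm hP (UO_le_J S hx)))

theorem UT_le_MM : UO S ⊔ S.T ≤ MM S := sup_le (UO_le_MM S) (T_le_MM S)

theorem Ov.ty1 (hK : Ov S K) (hF : ∃ c : Fˣ, c ≠ 1) (hR : S.R.p = 2) {g : G} (hg : g ∈ K) (h : Ty1 S g) : g ∈ MM S := by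
  obtain ⟨b, hb, t, ht, rfl⟩ := type_one h
  have hb' : b ∈ K := by
    have := mul_mem hg (inv_mem (hK.le (T_le_MM S ht)))
    rwa [mul_inv_cancel_right] at this
  exact mul_mem (UO_le_MM S (hK.inf hF hR hb' hb)) (T_le_MM S ht)

theorem Ov.cent_o2 (hK : Ov S K) (hF : ∃ c : Fˣ, c ≠ 1) (hR : S.R.p = 2) {g : G} (hg : g ∈ K) {s : F} (hs : s ≠ 0)
    (h : g * S.o 2 s = S.o 2 s * g) : g ∈ MM S := by
  have h1 : g ∈ S.HO := by
    rw [← S.centralizer_o hs, Subgroup.mem_centralizer_singleton_iff]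
    exact h
  obtain ⟨l, hl, q, hq, rfl⟩ := S.J19_split (HO_le_J S h1)
  have hl' : l ∈ MM S := (sup_le (X1_le S) (X9_le S) : S.LO ≤ MM S) hl
  have hq' : q ∈ K := by
    have := mul_mem (inv_mem (hK.le hl')) hg
    rwa [inv_mul_cancel_left] at this
  exact mul_mem hl' (UO_le_MM S (hK.inf hF hR hq' (J_mono (by norm_num) le_rfl hq)))

theorem ck_MM (k : ℤ) {x : G} : S.ck k x ∈ MM S ↔ x ∈ MM S := by
  have h1 : ∀ (k : ℤ) {x : G}, x ∈ MM S → S.ck k x ∈ MM S := fun k x hx =>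
    MM_conj (S := S) (g := S.rot ^ k) (fun a t => S.rotk_o k a t) hx
  refine ⟨fun h => ?_, h1 k⟩
  have h2 := h1 (-k) h
  rwa [ck_ck, neg_add_cancel, ck_zero] at h2

theorem Ov.map (hK : Ov S K) (k : ℤ) : Ov S (K.map (S.ck k).toMonoidHom) where
  le := fun x hx => ⟨S.ck (-k) x, hK.le ((ck_MM (-k)).2 hx), by
    show S.ck k (S.ck (-k) x) = x
    rw [ck_ck, add_neg_cancel, ck_zero]⟩
  ne := fun h => hK.ne (by
    rw [eq_top_iff]
    intro x _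
    have h1 : S.ck k x ∈ K.map (S.ck k).toMonoidHom := by rw [h]; trivial
    obtain ⟨y, hy, e⟩ := h1
    have : y = x := (S.ck k).injective e
    rw [← this]; exact hy)

theorem Ov.cent_o1 (hK : Ov S K) (hF : ∃ c : Fˣ, c ≠ 1) (hR : S.R.p = 2) {g : G} (hg : g ∈ K) {s : F} (hs : s ≠ 0)
    (h : g * S.o 1 s = S.o 1 s * g) : g ∈ MM S := by
  rw [← ck_MM 1]
  refine (hK.map 1).cent_o2 hF hR ⟨g, hg, rfl⟩ hs ?_
  have := congrArg (S.ck 1) h
  rw [map_mul, map_mul, S.ck_o] at this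
  exact this

theorem Ov.cent_o (hK : Ov S K) (hF : ∃ c : Fˣ, c ≠ 1) (hR : S.R.p = 2) {g : G} (hg : g ∈ K) {j : ZMod 8}
    (hj : j = 1 ∨ j = 2) {s : F} (hs : s ≠ 0) (h : g * S.o j s = S.o j s * g) : g ∈ MM S := by
  rcases hj with rfl | rfl
  · exact hK.cent_o1 hF hR hg hs h
  · exact hK.cent_o2 hF hR hg hs h

/-- `K ∩ N(UO) ≤ N(M)` -/
theorem Ov.norm_MM (hK : Ov S K) (hF : ∃ c : Fˣ, c ≠ 1) (hR : S.R.p = 2) {g : G} (hg : g ∈ K)
    (hN : g ∈ Subgroup.normalizer (UO S : Set G)) : g ∈ Subgroup.normalizer (MM S : Set G) := by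
  have key : ∀ (j : ZMod 8) (x : G), j = 1 ∨ j = 2 → x ∈ MM S → x * S.o j 1 = S.o j 1 * x → g * x * g⁻¹ ∈ MM S := by
    intro j x hj hx hc
    have hxK : g * x * g⁻¹ ∈ K := mul_mem (mul_mem hg (hK.le hx)) (inv_mem hg)
    have hc' : (g * x * g⁻¹) * (g * S.o j 1 * g⁻¹) = (g * S.o j 1 * g⁻¹) * (g * x * g⁻¹) := by
      calc (g * x * g⁻¹) * (g * S.o j 1 * g⁻¹) = g * (x * S.o j 1) * g⁻¹ := by group
        _ = _ := by rw [hc]; group
    have h1 : g * S.o j 1 * g⁻¹ ≠ 1 := fun h => by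
      rw [mul_inv_eq_one, mul_eq_left] at h
      exact one_ne_zero (S.o_eq_one h)
    rcases conj_o hN hj 1 with ⟨t', h⟩ | ⟨t', h⟩
    · rw [h] at hc' h1
      refine hK.cent_o1 hF hR hxK ?_ hc'
      rintro rfl
      exact h1 (S.o_zero 1)
    · rw [h] at hc' h1
      refine hK.cent_o2 hF hR hxK ?_ hc'
      rintro rfl
      exact h1 (S.o_zero 2)
  refine norm_of_le fun x hx => ?_
  have h6 : MM S ≤ (MM S).comap (MulAut.conj g).toMonoidHom := by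
    refine MM_le_of_six (fun t => ?_) (fun t => ?_) (fun t => ?_) (fun t => ?_) (fun t => ?_) (fun t => ?_)
    · exact key 2 _ (Or.inr rfl) (o_mem_MM S 0 t) (S.o_o2 0 t 1)
    · exact key 2 _ (Or.inr rfl) (o_mem_MM S 1 t) (S.o_o1 1 t 1)
    · exact key 1 _ (Or.inl rfl) (o_mem_MM S 2 t) (S.o_o1 1 1 t).symm
    · exact key 1 _ (Or.inl rfl) (o_mem_MM S 3 t) (S.o_o2 1 1 t).symm
    · exact key 2 _ (Or.inr rfl) (o_mem_MM S 4 t) (S.o_o2 2 1 t).symm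
    · exact key 1 _ (Or.inl rfl) (o_mem_MM S 7 t) (S.o_o2 7 t 1)
  exact h6 hx

end

/-! ### the two kinds of involutions of `M` -/

variable (S) in
/-- non-trivial elements of `X_3 ∪ X_5` -/
def Sg (z : G) : Prop := ∃ (j : ZMod 8) (s : F), (j = 1 ∨ j = 2) ∧ s ≠ 0 ∧ z = S.o j s

variable (S) in
/-- elements of `X_3X_5` which are in neither -/
def Db (z : G) : Prop := ∃ a b : F, a ≠ 0 ∧ b ≠ 0 ∧ z = S.o 1 a * S.o 2 b

theorem Sg.sq {z : G} (h : Sg S z) : z * z = 1 := by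
  obtain ⟨j, s, -, -, rfl⟩ := h
  exact o_sq S _ _

theorem Sg.ne {z : G} (h : Sg S z) : z ≠ 1 := by
  obtain ⟨j, s, -, hs, rfl⟩ := h
  exact fun h => hs (S.o_eq_one h)

theorem Sg.mem {z : G} (h : Sg S z) : z ∈ UO S := by
  obtain ⟨j, s, rfl | rfl, hs, rfl⟩ := h
  · exact o1_UO S s
  · exact o2_UO S s

theorem Db.mem {z : G} (h : Db S z) : z ∈ UO S := by
  obtain ⟨a, b, -, -, rfl⟩ := h
  exact mul_mem (o1_UO S a) (o2_UO S b)

theorem comm_center {x : G} (hx : x ∈ UO S) (a b : F) : x * (S.o 1 a * S.o 2 b) = (S.o 1 a * S.o 2 b) * x := by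
  obtain ⟨a', b', c', d', e⟩ := hx
  rw [← e, o12_pU, pU_mul, pU_mul]
  simp only [map_zero, zero_mul, mul_zero, add_zero, zero_add]
  rw [add_comm b' a, add_comm c' b]

theorem Sg.form {z : G} (h : Sg S z) : ∃ a b : F, (a = 0 ∨ b = 0) ∧ z = S.o 1 a * S.o 2 b := by
  obtain ⟨j, s, rfl | rfl, hs, rfl⟩ := h
  · exact ⟨s, 0, Or.inr rfl, o1_eq s⟩
  · exact ⟨0, s, Or.inl rfl, o2_eq s⟩

theorem Sg.comm {z : G} (h : Sg S z) {x : G} (hx : x ∈ UO S) : x * z = z * x := by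
  obtain ⟨a, b, -, rfl⟩ := h.form
  exact comm_center hx a b

theorem Db.comm {z : G} (h : Db S z) {x : G} (hx : x ∈ UO S) : x * z = z * x := by
  obtain ⟨a, b, -, -, rfl⟩ := h
  exact comm_center hx a b

theorem Sg.not_Db {z : G} (h : Sg S z) (h' : Db S z) : False := by
  obtain ⟨a, b, h1, rfl⟩ := h.form
  obtain ⟨a', b', ha, hb, h2⟩ := h'
  rw [o12_pU, o12_pU] at h2
  obtain ⟨-, h3, h4, -⟩ := pU_inj S h2
  rcases h1 with rfl | rfl
  · exact ha h3.symm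
  · exact hb h4.symm

theorem sg_or_db {a b : F} (h : S.o 1 a * S.o 2 b ≠ 1) : Sg S (S.o 1 a * S.o 2 b) ∨ Db S (S.o 1 a * S.o 2 b) := by
  by_cases ha : a = 0
  · subst ha
    left
    refine ⟨2, b, Or.inr rfl, ?_, (o2_eq b).symm⟩
    rintro rfl
    exact h (by rw [S.o_zero, S.o_zero, one_mul])
  by_cases hb : b = 0
  · subst hb
    exact Or.inl ⟨1, a, Or.inl rfl, ha, (o1_eq a).symm⟩
  exact Or.inr ⟨a, b, ha, hb, rfl⟩

theorem conj_ne_one {G : Type*} [Group G] {m z : G} (h : z ≠ 1) : m * z * m⁻¹ ≠ 1 := fun h' => by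
  rw [mul_inv_eq_one, mul_eq_left] at h'
  exact h h'

/-- **(E)** the involutions of `M` -/
theorem inv_class [Finite F] [Finite G] (hF : ∃ c : Fˣ, c ≠ 1) (hR : S.R.p = 2) {z : G} (hz : z ∈ MM S)
    (hz2 : z * z = 1) (hz1 : z ≠ 1) : ∃ m ∈ MM S, Sg S (m * z * m⁻¹) ∨ Db S (m * z * m⁻¹) := by
  have h2 : IsPGroup 2 (Subgroup.zpowers z) := by
    rintro ⟨x, hx⟩
    obtain ⟨n, rfl⟩ := Subgroup.mem_zpowers_iff.1 hx
    refine ⟨1, Subtype.ext ?_⟩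
    show (z ^ n) ^ (2 ^ 1) = 1
    rw [pow_one, pow_two, ← zpow_add, ← two_mul, zpow_mul, zpow_two, hz2, one_zpow]
  obtain ⟨m, hm, hU⟩ := conj_UO S hF hR le_rfl (UO_le_MM S) h2 (Subgroup.zpowers_le.2 hz)
  have hU' := hU z (Subgroup.mem_zpowers z)
  have key : ∀ n ∈ MM S, (∃ a b, n * (m * z * m⁻¹) * n⁻¹ = S.o 1 a * S.o 2 b) →
      ∃ m ∈ MM S, Sg S (m * z * m⁻¹) ∨ Db S (m * z * m⁻¹) := by
    rintro n hn ⟨a, b, h⟩
    refine ⟨n * m, mul_mem hn hm, ?_⟩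
    have e : n * m * z * (n * m)⁻¹ = n * (m * z * m⁻¹) * n⁻¹ := by group
    rw [e, h]
    refine sg_or_db ?_
    rw [← h]
    exact conj_ne_one (conj_ne_one hz1)
  obtain ⟨a, b, c, d, e⟩ := hU'
  have hsq : pU S a b c d * pU S a b c d = 1 := by
    rw [e]
    calc m * z * m⁻¹ * (m * z * m⁻¹) = m * (z * z) * m⁻¹ := by group
      _ = 1 := by rw [hz2]; group
  have had : a = 0 ∨ d = 0 := by
    rw [pU_mul] at hsq
    have := (pU_eq_one S hsq).2.1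
    rw [char2 S, zero_add] at this
    rcases mul_eq_zero.1 this with h | h
    · exact Or.inl ((map_eq_zero σ).1 h)
    · exact Or.inr h
  by_cases ha : a = 0
  · by_cases hd : d = 0
    · subst ha hd
      exact key 1 (one_mem _) ⟨b, c, by rw [← e, o12_pU]; group⟩
    · subst ha
      -- kill `b`
      obtain ⟨s, hs⟩ := σ_surj σ (b * d⁻¹)
      have hn : S.n1 * S.o 0 s ∈ MM S := mul_mem (n1_mem_MM S) (o_mem_MM S 0 s)
      refine key _ hn ⟨d, c + s * σ d, ?_⟩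
      have e1 : S.o 0 s * pU S 0 b c d * (S.o 0 s)⁻¹ = S.o 2 (c + s * σ d) * S.o 3 d := by
        rw [o_inv S, o0_pU, pU_mul, pU_mul, o2_pU, o3_pU, pU_mul]
        simp only [map_zero, mul_zero, add_zero, zero_add]
        rw [char2 S, hs, inv_mul_cancel_right₀ hd, char2 S]
      rw [← e]
      have e2 : S.n1 * S.o 0 s * pU S 0 b c d * (S.n1 * S.o 0 s)⁻¹ =
          S.n1 * (S.o 0 s * pU S 0 b c d * (S.o 0 s)⁻¹) * S.n1⁻¹ := by group
      have e3 : S.n1 * (S.o 2 (c + s * σ d) * S.o 3 d) * S.n1⁻¹ =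
          (S.n1 * S.o 2 (c + s * σ d) * S.n1⁻¹) * (S.n1 * S.o 3 d * S.n1⁻¹) := by group
      rw [e2, e1, e3, S.n1_o, S.n1_o]
      exact (S.o_o1 1 d _).symm
  · have hd := had.resolve_left ha
    subst hd
    obtain ⟨s, hs⟩ := σ_surj σ (c * a⁻¹)
    have hn : mJ S * S.o 3 s ∈ MM S := mul_mem (mJ_mem_MM S) (o_mem_MM S 3 s)
    refine key _ hn ⟨b + σ a * s, a, ?_⟩
    have e1 : S.o 3 s * pU S a b c 0 * (S.o 3 s)⁻¹ = S.o 0 a * S.o 1 (b + σ a * s) := by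
      rw [o_inv S, o3_pU, pU_mul, pU_mul, o0_pU, o1_pU, pU_mul]
      simp only [map_zero, zero_mul, mul_zero, add_zero, zero_add]
      rw [char2 S, hs]
      have : c + a * (c * a⁻¹) = 0 := by
        rw [mul_comm c, mul_inv_cancel_left₀ ha, char2 S]
      rw [this]
    rw [← e]
    have e2 : mJ S * S.o 3 s * pU S a b c 0 * (mJ S * S.o 3 s)⁻¹ =
        mJ S * (S.o 3 s * pU S a b c 0 * (S.o 3 s)⁻¹) * (mJ S)⁻¹ := by group
    have e3 : mJ S * (S.o 0 a * S.o 1 (b + σ a * s)) * (mJ S)⁻¹ =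
        (mJ S * S.o 0 a * (mJ S)⁻¹) * (mJ S * S.o 1 (b + σ a * s) * (mJ S)⁻¹) := by group
    rw [e2, e1, e3, mJ_o, mJ_o]
    exact (S.o_o1 1 _ _).symm

section

variable [Finite F] [Finite G] {K : Subgroup G}

/-- **(A)** -/
theorem Ov.cent_Sg (hK : Ov S K) (hF : ∃ c : Fˣ, c ≠ 1) (hR : S.R.p = 2) {g z : G} (hg : g ∈ K) (hz : Sg S z)
    (h : g * z = z * g) : g ∈ MM S := by
  obtain ⟨j, s, hj, hs, rfl⟩ := hz
  exact hK.cent_o hF hR hg hj hs h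

/-- **(K)** the two kinds are not fused in `K` -/
theorem Ov.not_fused (hK : Ov S K) (hF : ∃ c : Fˣ, c ≠ 1) (hR : S.R.p = 2) {g z w : G} (hg : g ∈ K) (hz : Sg S z)
    (hw : Db S w) : g * w * g⁻¹ ≠ z := by
  intro h
  have hM₀ : K ⊓ Subgroup.centralizer {z} ≤ MM S := fun x hx =>
    hK.cent_Sg hF hR hx.1 hz (Subgroup.mem_centralizer_singleton_iff.1 hx.2)
  have hU₀ : UO S ≤ K ⊓ Subgroup.centralizer {z} := fun x hx =>
    ⟨hK.le (UO_le_MM S hx), Subgroup.mem_centralizer_singleton_iff.2 (hz.comm hx)⟩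
  have hQ : IsPGroup 2 ((UO S).map (MulAut.conj g).toMonoidHom) := (UO_two S hR).map _
  have hQM : (UO S).map (MulAut.conj g).toMonoidHom ≤ K ⊓ Subgroup.centralizer {z} := by
    rintro _ ⟨x, hx, rfl⟩
    refine Subgroup.mem_inf.2 ⟨mul_mem (mul_mem hg (hK.le (UO_le_MM S hx))) (inv_mem hg),
      Subgroup.mem_centralizer_singleton_iff.2 ?_⟩
    show g * x * g⁻¹ * z = z * (g * x * g⁻¹)
    rw [← h]
    calc g * x * g⁻¹ * (g * w * g⁻¹) = g * (x * w) * g⁻¹ := by group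
      _ = _ := by rw [hw.comm hx]; group
  obtain ⟨m, hm, hU⟩ := conj_UO S hF hR hM₀ hU₀ hQ hQM
  have hn : m * g ∈ Subgroup.normalizer (UO S : Set G) := norm_of_le fun x hx => by
    have := hU (g * x * g⁻¹) ⟨x, hx, rfl⟩
    have e : m * (g * x * g⁻¹) * m⁻¹ = m * g * x * (m * g)⁻¹ := by group
    rwa [e] at this
  obtain ⟨a, b, ha, hb, rfl⟩ := hw
  obtain ⟨a', b', ha', hb', h1⟩ := conj_isC hn ha hb
  have hmz := Subgroup.mem_centralizer_singleton_iff.1 hm.2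
  have h2 : m * g * (S.o 1 a * S.o 2 b) * (m * g)⁻¹ = z := by
    calc m * g * (S.o 1 a * S.o 2 b) * (m * g)⁻¹ = m * (g * (S.o 1 a * S.o 2 b) * g⁻¹) * m⁻¹ := by group
      _ = z := by rw [h, hmz, mul_inv_cancel_right]
  rw [h2] at h1
  exact hz.not_Db ⟨a', b', ha', hb', h1⟩

theorem MM_le_norm : MM S ≤ Subgroup.normalizer (MM S : Set G) := Subgroup.le_normalizer

/-- **(C)** for elements of the first kind -/
theorem Ov.mem_norm_Sg (hK : Ov S K) (hF : ∃ c : Fˣ, c ≠ 1) (hR : S.R.p = 2) {g z : G} (hg : g ∈ K) (hz : Sg S z)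
    (h : g * z * g⁻¹ ∈ MM S) : g ∈ Subgroup.normalizer (MM S : Set G) := by
  obtain ⟨m, hm, hc⟩ := inv_class hF hR h (by
    calc g * z * g⁻¹ * (g * z * g⁻¹) = g * (z * z) * g⁻¹ := by group
      _ = 1 := by rw [hz.sq]; group) (conj_ne_one hz.ne)
  have e : m * (g * z * g⁻¹) * m⁻¹ = (m * g) * z * (m * g)⁻¹ := by group
  rw [e] at hc
  have hmg : m * g ∈ K := mul_mem (hK.le hm) hg
  rcases hc with hc | hc
  · have hQ : IsPGroup 2 ((UO S).map (MulAut.conj (m * g)).toMonoidHom) := (UO_two S hR).map _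
    have hQM : (UO S).map (MulAut.conj (m * g)).toMonoidHom ≤ MM S := by
      rintro _ ⟨x, hx, rfl⟩
      refine hK.cent_Sg hF hR (mul_mem (mul_mem hmg (hK.le (UO_le_MM S hx))) (inv_mem hmg)) hc ?_
      show (m * g) * x * (m * g)⁻¹ * ((m * g) * z * (m * g)⁻¹) = (m * g) * z * (m * g)⁻¹ * ((m * g) * x * (m * g)⁻¹)
      calc (m * g) * x * (m * g)⁻¹ * ((m * g) * z * (m * g)⁻¹) = (m * g) * (x * z) * (m * g)⁻¹ := by group
        _ = _ := by rw [hz.comm hx]; group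
    obtain ⟨m', hm', hU⟩ := conj_UO S hF hR le_rfl (UO_le_MM S) hQ hQM
    have hn : m' * (m * g) ∈ Subgroup.normalizer (UO S : Set G) := norm_of_le fun x hx => by
      have := hU ((m * g) * x * (m * g)⁻¹) ⟨x, hx, rfl⟩
      have e : m' * ((m * g) * x * (m * g)⁻¹) * m'⁻¹ = m' * (m * g) * x * (m' * (m * g))⁻¹ := by group
      rwa [e] at this
    have h1 := hK.norm_MM hF hR (mul_mem (hK.le hm') hmg) hn
    have h2 := mul_mem (inv_mem (mul_mem (MM_le_norm hm') (MM_le_norm hm))) h1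
    have e2 : (m' * m)⁻¹ * (m' * (m * g)) = g := by group
    rwa [e2] at h2
  · exfalso
    refine hK.not_fused hF hR (inv_mem hmg) hz hc ?_
    group

/-- Frattini -/
theorem frattini (hF : ∃ c : Fˣ, c ≠ 1) (hR : S.R.p = 2) {g : G} (hN : g ∈ Subgroup.normalizer (MM S : Set G)) :
    ∃ m ∈ MM S, m * g ∈ Subgroup.normalizer (UO S : Set G) := by
  have hQ : IsPGroup 2 ((UO S).map (MulAut.conj g).toMonoidHom) := (UO_two S hR).map _
  have hQM : (UO S).map (MulAut.conj g).toMonoidHom ≤ MM S := by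
    rintro _ ⟨x, hx, rfl⟩
    exact (Subgroup.mem_normalizer_iff.1 hN x).1 (UO_le_MM S hx)
  obtain ⟨m', hm', hU⟩ := conj_UO S hF hR le_rfl (UO_le_MM S) hQ hQM
  refine ⟨m', hm', norm_of_le fun x hx => ?_⟩
  have := hU (g * x * g⁻¹) ⟨x, hx, rfl⟩
  have e : m' * (g * x * g⁻¹) * m'⁻¹ = m' * g * x * (m' * g)⁻¹ := by group
  rwa [e] at this

/-- **(F)** -/
theorem Ov.prod (hK : Ov S K) (hF : ∃ c : Fˣ, c ≠ 1) (hR : S.R.p = 2) {g h : G} (hg : g ∈ K) (hh : h ∈ K)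
    (hgN : g ∈ Subgroup.normalizer (MM S : Set G)) (hhN : h ∈ Subgroup.normalizer (MM S : Set G)) (hgM : g ∉ MM S)
    (hhM : h ∉ MM S) : g * h ∈ MM S := by
  have ty2 : ∀ g ∈ K, g ∈ Subgroup.normalizer (MM S : Set G) → g ∉ MM S → ∃ m ∈ MM S, m * g ∈ K ∧ Ty2 S (m * g) := by
    intro g hg hgN hgM
    obtain ⟨m, hm, hn⟩ := frattini hF hR hgN
    have hmK := mul_mem (hK.le hm) hg
    refine ⟨m, hm, hmK, (type hn).resolve_left fun h1 => hgM ?_⟩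
    have h2 := mul_mem (inv_mem hm) (hK.ty1 hF hR hmK h1)
    rwa [inv_mul_cancel_left] at h2
  obtain ⟨m, hm, hmK, h1⟩ := ty2 g hg hgN hgM
  obtain ⟨n, hn, hnK, h2⟩ := ty2 h hh hhN hhM
  have h3 := hK.ty1 hF hR (mul_mem hmK hnK) (h1.mul h2)
  have h4 := (Subgroup.mem_normalizer_iff.1 hgN n).1 hn
  have e : g * h = (g * n * g⁻¹)⁻¹ * (m⁻¹ * (m * g * (n * h))) := by group
  rw [e]
  exact mul_mem (inv_mem h4) (mul_mem (inv_mem hm) h3)

theorem Ov.pick (hK : Ov S K) (hF : ∃ c : Fˣ, c ≠ 1) (hR : S.R.p = 2) {g : G} (hg : g ∈ K)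
    (h : ∀ r, g * S.o 1 r * g⁻¹ ∈ Subgroup.normalizer (MM S : Set G)) : g ∈ Subgroup.normalizer (MM S : Set G) := by
  have hK' : ∀ r, g * S.o 1 r * g⁻¹ ∈ K := fun r => mul_mem (mul_mem hg (hK.le (o_mem_MM S 1 r))) (inv_mem hg)
  have done : ∀ r, r ≠ 0 → g * S.o 1 r * g⁻¹ ∈ MM S → g ∈ Subgroup.normalizer (MM S : Set G) := fun r hr h1 =>
    hK.mem_norm_Sg hF hR hg ⟨1, r, Or.inl rfl, hr, rfl⟩ h1
  by_cases h1 : g * S.o 1 1 * g⁻¹ ∈ MM S
  · exact done 1 one_ne_zero h1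
  obtain ⟨c, hc⟩ := hF
  by_cases h2 : g * S.o 1 c * g⁻¹ ∈ MM S
  · exact done c c.ne_zero h2
  have h3 := hK.prod ⟨c, hc⟩ hR (hK' 1) (hK' c) (h 1) (h c) h1 h2
  have e : g * S.o 1 1 * g⁻¹ * (g * S.o 1 c * g⁻¹) = g * S.o 1 (1 + c) * g⁻¹ := by rw [← S.o_add]; group
  rw [e] at h3
  refine done (1 + c) (fun h0 => hc (Units.ext ?_)) h3
  rw [Units.val_one]
  exact (add_eq_zero' S h0).symm

theorem e3_o1 (q v t : F) : (S.e 3 q v)⁻¹ * S.o 1 t * S.e 3 q v = S.o 1 t * S.e 2 0 (t * q) := by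
  have h : S.o 1 t * S.e 3 q v = S.e 3 q v * S.o 1 t * S.e 2 0 (t * q) := S.o_e2 1 t q v
  rw [mul_assoc, h]; group

theorem e4_o1 (q v t : F) : (S.e 4 q v)⁻¹ * S.o 1 t * S.e 4 q v =
    S.o 1 t * S.e 2 0 (σ t * q) * S.o 2 (t * σ q) * S.e 3 0 (t * q * σ q + t * v) := by
  have h : S.o 1 t * S.e 4 q v = S.e 4 q v * S.o 1 t * S.e 2 0 (σ t * q) * S.o 2 (t * σ q) *
    S.e 3 0 (t * q * σ q + t * v) := S.o_e3 1 t q v
  rw [mul_assoc, h]; group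

/-- the conjugating element for `(D)` -/
theorem exists_y {s t : F} (hs : s ≠ 0) : ∃ y ∈ J S.XZ 0 8, y⁻¹ * S.o 1 s * y = S.o 1 s * S.o 2 t ∧
    ∀ r, y * S.o 1 r * y⁻¹ ∈ Layers.NZ S 1 := by
  obtain ⟨q, hq⟩ := σ_surj σ (t * s⁻¹)
  set p := σ s * q * s⁻¹ with hp
  have hsp : s * p = σ s * q := by rw [hp]; field_simp
  have hsq : s * σ q = t := by rw [hq]; field_simp
  set e := S.e 4 q (q * σ q) with he
  set f := S.e 3 p 0 with hf
  have hei : e⁻¹ = S.e 4 q 0 := by rw [he, e_inv S, char2 S]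
  have hfi : f⁻¹ = S.e 3 p (p * σ p) := by rw [hf, e_inv S, zero_add]
  refine ⟨e * f, mul_mem (mem_J (S.mX8 _ _) (by norm_num) (by norm_num)) (mem_J (S.mX6 _ _) (by norm_num) (by norm_num)),
    ?_, fun r => ?_⟩
  · have h1 : e⁻¹ * S.o 1 s * e = S.o 1 s * S.e 2 0 (σ s * q) * S.o 2 t := by
      rw [he, e4_o1, hsq]
      have : s * q * σ q + s * (q * σ q) = 0 := by rw [mul_assoc, char2 S]
      rw [this, S.e_zero, mul_one]
    have h2 : f⁻¹ * S.o 1 s * f = S.o 1 s * S.e 2 0 (σ s * q) := by rw [hf, e3_o1, hsp]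
    have h3 : f⁻¹ * S.e 2 0 (σ s * q) * f = S.e 2 0 (σ s * q) := by
      have : S.e 2 0 (σ s * q) * f = f * S.e 2 0 (σ s * q) * S.o 2 (0 * p) := S.e_e1 2 0 (σ s * q) p 0
      rw [zero_mul, S.o_zero, mul_one] at this
      rw [mul_assoc, this]; group
    have h4 : f⁻¹ * S.o 2 t * f = S.o 2 t := by
      have : S.o 2 t * f = f * S.o 2 t := S.o_e1 2 t p 0
      rw [mul_assoc, this]; group
    calc (e * f)⁻¹ * S.o 1 s * (e * f) = f⁻¹ * (e⁻¹ * S.o 1 s * e) * f := by group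
      _ = (f⁻¹ * S.o 1 s * f) * (f⁻¹ * S.e 2 0 (σ s * q) * f) * (f⁻¹ * S.o 2 t * f) := by rw [h1]; group
      _ = S.o 1 s * (S.e 2 0 (σ s * q) * S.e 2 0 (σ s * q)) * S.o 2 t := by rw [h2, h3, h4]; group
      _ = _ := by rw [z_sq S, mul_one]
  · have hN : ∀ x, x ∈ J S.XZ 0 6 → (∀ u, S.o 1 u * x = x * S.o 1 u) → x ∈ Layers.NZ S 1 := by
      intro x hx hc
      refine ⟨hx, Subgroup.mem_centralizer_iff.2 fun y hy => ?_⟩
      obtain ⟨u, rfl⟩ := S.X3 hy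
      exact hc u
    have n1 : S.o 1 r ∈ Layers.NZ S 1 := hN _ (mem_J (S.mX3 r) (by norm_num) (by norm_num)) fun u => by
      rw [S.o_add, S.o_add, add_comm]
    have n2 : ∀ v, S.e 2 0 v ∈ Layers.NZ S 1 := fun v => hN _ (mem_J (S.mX4 0 v) (by norm_num) (by norm_num)) fun u =>
      S.o_e1 1 u 0 v
    have n3 : ∀ v, S.o 2 v ∈ Layers.NZ S 1 := fun v => hN _ (mem_J (S.mX5 v) (by norm_num) (by norm_num)) fun u =>
      S.o_o1 1 u v
    have n4 : ∀ v, S.e 3 0 v ∈ Layers.NZ S 1 := fun v => hN _ (mem_J (S.mX6 0 v) (by norm_num) (by norm_num)) fun u => by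
      have : S.o 1 u * S.e 3 0 v = S.e 3 0 v * S.o 1 u * S.e 2 0 (u * 0) := S.o_e2 1 u 0 v
      rwa [mul_zero, S.e_zero, mul_one] at this
    have h1 : f * S.o 1 r * f⁻¹ = S.o 1 r * S.e 2 0 (r * p) := by
      have := e3_o1 (S := S) p (p * σ p) r
      rw [← hfi, inv_inv] at this
      exact this
    have h2 : e * S.o 1 r * e⁻¹ = S.o 1 r * S.e 2 0 (σ r * q) * S.o 2 (r * σ q) * S.e 3 0 (r * q * σ q + r * 0) := by
      have := e4_o1 (S := S) q 0 r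
      rw [← hei, inv_inv] at this
      exact this
    have h3 : e * S.e 2 0 (r * p) * e⁻¹ = S.e 2 0 (r * p) := by
      have : S.e 2 0 (r * p) * e = e * S.e 2 0 (r * p) := S.e_e2 2 0 (r * p) q (q * σ q)
      rw [← this, mul_inv_cancel_right]
    have h4 : (e * f) * S.o 1 r * (e * f)⁻¹ = (e * S.o 1 r * e⁻¹) * (e * S.e 2 0 (r * p) * e⁻¹) := by
      calc (e * f) * S.o 1 r * (e * f)⁻¹ = e * (f * S.o 1 r * f⁻¹) * e⁻¹ := by group
        _ = _ := by rw [h1]; group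
    rw [h4, h2, h3]
    exact mul_mem (mul_mem (mul_mem (mul_mem n1 (n2 _)) (n3 _)) (n4 _)) (n2 _)

/-- **(D)** -/
theorem Ov.cent_Db (hK : Ov S K) (hF : ∃ c : Fˣ, c ≠ 1) (hR : S.R.p = 2) {g w : G} (hg : g ∈ K) (hw : Db S w)
    (h : g * w = w * g) : g ∈ Subgroup.normalizer (MM S : Set G) := by
  obtain ⟨s, t, hs, ht, rfl⟩ := hw
  obtain ⟨y, hy, hys, hyr⟩ := exists_y (S := S) (t := t) hs
  have hgH : y * g * y⁻¹ ∈ Layers.HZ S 1 := by
    rw [← Layers.centralizer_o S 1 hs, Subgroup.mem_centralizer_singleton_iff]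
    show y * g * y⁻¹ * S.o 1 s = S.o 1 s * (y * g * y⁻¹)
    have e1 : y * (S.o 1 s * S.o 2 t) = S.o 1 s * y := by rw [← hys]; group
    calc y * g * y⁻¹ * S.o 1 s = y * g * (y⁻¹ * S.o 1 s * y) * y⁻¹ := by group
      _ = y * (g * (S.o 1 s * S.o 2 t)) * y⁻¹ := by rw [hys]; group
      _ = (y * (S.o 1 s * S.o 2 t)) * g * y⁻¹ := by rw [h]; group
      _ = _ := by rw [e1]; group
  refine hK.pick hF hR hg fun r => ?_
  have hK' : g * S.o 1 r * g⁻¹ ∈ K := mul_mem (mul_mem hg (hK.le (o_mem_MM S 1 r))) (inv_mem hg)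
  refine hK.norm_MM hF hR hK' (hK.norm_of_P hF hR hK' (PL_le_P S ?_))
  have h1 := Layers.N_norm S 1 hgH (hyr r)
  have h2 : y * g * y⁻¹ * (y * S.o 1 r * y⁻¹) * (y * g * y⁻¹)⁻¹ ∈ J S.XZ 0 8 :=
    J_mono (by norm_num) (by norm_num) h1.1
  have e : g * S.o 1 r * g⁻¹ = y⁻¹ * (y * g * y⁻¹ * (y * S.o 1 r * y⁻¹) * (y * g * y⁻¹)⁻¹) * y := by group
  rw [e]
  exact mul_mem (mul_mem (inv_mem hy) h2) hy

/-- **(C)** for all involutions of `M` -/
theorem Ov.mem_norm (hK : Ov S K) (hF : ∃ c : Fˣ, c ≠ 1) (hR : S.R.p = 2) {g z : G} (hg : g ∈ K) (hz : z ∈ MM S)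
    (hz2 : z * z = 1) (hz1 : z ≠ 1) (h : g * z * g⁻¹ ∈ MM S) : g ∈ Subgroup.normalizer (MM S : Set G) := by
  obtain ⟨m, hm, hc⟩ := inv_class hF hR hz hz2 hz1
  obtain ⟨n, hn, hd⟩ := inv_class hF hR h (by
    calc g * z * g⁻¹ * (g * z * g⁻¹) = g * (z * z) * g⁻¹ := by group
      _ = 1 := by rw [hz2]; group) (conj_ne_one hz1)
  -- `k = n g m⁻¹`
  have hk : n * g * m⁻¹ ∈ K := mul_mem (mul_mem (hK.le hn) hg) (inv_mem (hK.le hm))
  have e : n * (g * z * g⁻¹) * n⁻¹ = (n * g * m⁻¹) * (m * z * m⁻¹) * (n * g * m⁻¹)⁻¹ := by group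
  rw [e] at hd
  have back : n * g * m⁻¹ ∈ Subgroup.normalizer (MM S : Set G) → g ∈ Subgroup.normalizer (MM S : Set G) := by
    intro h1
    have h2 := mul_mem (mul_mem (inv_mem (MM_le_norm hn)) h1) (MM_le_norm hm)
    have e2 : n⁻¹ * (n * g * m⁻¹) * m = g := by group
    rwa [e2] at h2
  apply back
  rcases hc with hc | hc
  · refine hK.mem_norm_Sg hF hR hk hc ?_
    rcases hd with hd | hd
    · exact UO_le_MM S hd.mem
    · exact UO_le_MM S hd.mem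
  · rcases hd with hd | hd
    · exact (hK.not_fused hF hR hk hd hc rfl).elim
    · refine hK.pick hF hR hk fun r => ?_
      refine hK.cent_Db hF hR (mul_mem (mul_mem hk (hK.le (o_mem_MM S 1 r))) (inv_mem hk)) hd ?_
      have h1 := hc.comm (o1_UO S r)
      calc n * g * m⁻¹ * S.o 1 r * (n * g * m⁻¹)⁻¹ * (n * g * m⁻¹ * (m * z * m⁻¹) * (n * g * m⁻¹)⁻¹) =
          n * g * m⁻¹ * (S.o 1 r * (m * z * m⁻¹)) * (n * g * m⁻¹)⁻¹ := by group
        _ = _ := by rw [h1]; group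

/-- **(H)** -/
theorem Ov.outer (hK : Ov S K) (hF : ∃ c : Fˣ, c ≠ 1) (hR : S.R.p = 2) {i : G} (hi : i ∈ K)
    (hiN : i ∈ Subgroup.normalizer (MM S : Set G)) (hiM : i ∉ MM S) (hi2 : i * i = 1) :
    ∃ x ∈ MM S, ∃ y ∈ MM S, x * x = 1 ∧ y * y = 1 ∧ x ≠ 1 ∧ y ≠ 1 ∧ x * y = y * x ∧ x * y ≠ 1 ∧ i * x = x * i ∧
      i * y = y * i := by
  have hfact : Fact (Nat.Prime 2) := ⟨Nat.prime_two⟩
  set L : Subgroup G := K ⊓ Subgroup.normalizer (MM S : Set G) with hL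
  have hUL : UO S ≤ L := fun x hx => ⟨hK.le (UO_le_MM S hx), MM_le_norm (UO_le_MM S hx)⟩
  have hVs : IsPGroup 2 ((UO S).subgroupOf L) := (UO_two S hR).of_equiv (Subgroup.subgroupOfEquivOfLe hUL).symm
  obtain ⟨P0, hP0⟩ := hVs.exists_le_sylow
  have hiL : i ∈ L := ⟨hi, hiN⟩
  have hQ : IsPGroup 2 (Subgroup.zpowers (⟨i, hiL⟩ : L)) := by
    rintro ⟨x, hx⟩
    obtain ⟨n, rfl⟩ := Subgroup.mem_zpowers_iff.1 hx
    refine ⟨1, Subtype.ext ?_⟩
    have h2 : (⟨i, hiL⟩ : L) * ⟨i, hiL⟩ = 1 := Subtype.ext hi2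
    show ((⟨i, hiL⟩ : L) ^ n) ^ (2 ^ 1) = 1
    rw [pow_one, pow_two, ← zpow_add, ← two_mul, zpow_mul, zpow_two, h2, one_zpow]
  obtain ⟨P1, hP1⟩ := hQ.exists_le_sylow
  obtain ⟨k, hk⟩ := MulAction.exists_smul_eq L P1 P0
  have h1 : k * ⟨i, hiL⟩ * k⁻¹ ∈ (P0 : Subgroup L) := by
    have h2 : (⟨i, hiL⟩ : L) ∈ (P1 : Subgroup L) := hP1 (Subgroup.mem_zpowers _)
    rw [← hk, Sylow.smul_def]
    exact Subgroup.smul_mem_pointwise_smul _ (MulAut.conj k) _ h2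
  -- `P0 ∩ M = UO`
  set A : Subgroup G := (P0 : Subgroup L).map L.subtype ⊓ MM S with hA
  have hA2 : IsPGroup 2 A := (P0.2.map L.subtype).to_le inf_le_left
  have hUA : UO S ≤ A := fun x hx => ⟨⟨⟨x, hUL hx⟩, hP0 hx, rfl⟩, UO_le_MM S hx⟩
  have hAU : UO S = A := by
    obtain ⟨m, hm, hmA⟩ := conj_UO S hF hR le_rfl (UO_le_MM S) hA2 inf_le_right
    refine Subgroup.eq_of_le_of_card_ge hUA ?_
    have ec : Nat.card (A.map (MulAut.conj m).toMonoidHom) = Nat.card A := by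
      rw [Subgroup.card_map_of_injective (MulAut.conj m).injective]
    rw [← ec]
    refine Subgroup.card_le_of_le ?_
    rintro _ ⟨x, hx, rfl⟩
    exact hmA x hx
  have hnorm : ∀ x : L, x ∈ (P0 : Subgroup L) → (x : G) ∈ Subgroup.normalizer (UO S : Set G) := by
    intro x hx
    refine norm_of_le fun u hu => ?_
    rw [hAU]
    refine ⟨⟨x * ⟨u, hUL hu⟩ * x⁻¹, mul_mem (mul_mem hx (hP0 hu)) (inv_mem hx), rfl⟩, ?_⟩
    exact (Subgroup.mem_normalizer_iff.1 x.2.2 u).1 (UO_le_MM S hu)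
  have h3 := hnorm _ h1
  set l : G := (k : G) with hl
  have hlK : l ∈ K := k.2.1
  have hlN : l ∈ Subgroup.normalizer (MM S : Set G) := k.2.2
  set j : G := l * i * l⁻¹ with hj
  have h4 : j ∈ Subgroup.normalizer (UO S : Set G) := h3
  have hjK : j ∈ K := mul_mem (mul_mem hlK hi) (inv_mem hlK)
  have hj2 : j * j = 1 := by
    calc l * i * l⁻¹ * (l * i * l⁻¹) = l * (i * i) * l⁻¹ := by group
      _ = 1 := by rw [hi2]; group
  have hjM : j ∉ MM S := fun h => hiM ((Subgroup.mem_normalizer_iff.1 hlN i).2 h)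
  have hty := (type h4).resolve_left fun h => hjM (hK.ty1 hF hR hjK h)
  -- the elements
  have hx : ∀ r : F, ∃ r' : F, j * (S.o 1 r * S.o 2 r') = (S.o 1 r * S.o 2 r') * j := by
    intro r
    obtain ⟨r', hr'⟩ := hty.1 r
    refine ⟨r', ?_⟩
    have e1 : j * S.o 1 r = S.o 2 r' * j := by rw [← hr']; group
    have hji : j⁻¹ = j := inv_eq_of_mul_eq_one_left hj2
    have e2 : j * S.o 2 r' = S.o 1 r * j := by
      rw [← hr', hji]
      calc j * (j * S.o 1 r * j) = (j * j) * S.o 1 r * j := by group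
        _ = _ := by rw [hj2, one_mul]
    calc j * (S.o 1 r * S.o 2 r') = (j * S.o 1 r) * S.o 2 r' := by group
      _ = S.o 2 r' * (j * S.o 2 r') := by rw [e1]; group
      _ = (S.o 2 r' * S.o 1 r) * j := by rw [e2]; group
      _ = _ := by rw [o2_o1]
  obtain ⟨c, hc⟩ := hF
  obtain ⟨r1, hr1⟩ := hx 1
  obtain ⟨r2, hr2⟩ := hx c
  have hM : ∀ a b : F, l⁻¹ * (S.o 1 a * S.o 2 b) * l ∈ MM S := fun a b => by
    have h5 := (Subgroup.mem_normalizer_iff.1 (inv_mem hlN) (S.o 1 a * S.o 2 b)).1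
      (mul_mem (o_mem_MM S 1 a) (o_mem_MM S 2 b))
    rwa [inv_inv] at h5
  have hsq : ∀ a b : F, l⁻¹ * (S.o 1 a * S.o 2 b) * l * (l⁻¹ * (S.o 1 a * S.o 2 b) * l) = 1 := fun a b => by
    have e : S.o 1 a * S.o 2 b * (S.o 1 a * S.o 2 b) = 1 := by
      rw [o12_pU, pU_mul]
      simp only [map_zero, mul_zero, add_zero]
      rw [char2 S, char2 S, pU_zero]
    calc l⁻¹ * (S.o 1 a * S.o 2 b) * l * (l⁻¹ * (S.o 1 a * S.o 2 b) * l) =
        l⁻¹ * (S.o 1 a * S.o 2 b * (S.o 1 a * S.o 2 b)) * l := by group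
      _ = 1 := by rw [e]; group
  have hne : ∀ a b : F, a ≠ 0 → l⁻¹ * (S.o 1 a * S.o 2 b) * l ≠ 1 := fun a b ha h5 => by
    have e : S.o 1 a * S.o 2 b = 1 := by
      have : S.o 1 a * S.o 2 b = l * (l⁻¹ * (S.o 1 a * S.o 2 b) * l) * l⁻¹ := by group
      rw [this, h5]; group
    rw [o12_pU] at e
    exact ha (pU_eq_one S e).2.1
  have hcomm : ∀ a b : F, j * (S.o 1 a * S.o 2 b) = (S.o 1 a * S.o 2 b) * j →
      i * (l⁻¹ * (S.o 1 a * S.o 2 b) * l) = (l⁻¹ * (S.o 1 a * S.o 2 b) * l) * i := fun a b h5 => by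
    have e : i = l⁻¹ * j * l := by rw [hj]; group
    calc i * (l⁻¹ * (S.o 1 a * S.o 2 b) * l) = l⁻¹ * (j * (S.o 1 a * S.o 2 b)) * l := by rw [e]; group
      _ = _ := by rw [h5, e]; group
  have hmul : ∀ a b a' b' : F, l⁻¹ * (S.o 1 a * S.o 2 b) * l * (l⁻¹ * (S.o 1 a' * S.o 2 b') * l) =
      l⁻¹ * (S.o 1 (a + a') * S.o 2 (b + b')) * l := fun a b a' b' => by
    have e : S.o 1 a * S.o 2 b * (S.o 1 a' * S.o 2 b') = S.o 1 (a + a') * S.o 2 (b + b') := by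
      rw [o12_pU, o12_pU, o12_pU, pU_mul]
      simp only [map_zero, mul_zero, add_zero]
    rw [← e]; group
  refine ⟨_, hM 1 r1, _, hM c r2, hsq _ _, hsq _ _, hne _ _ one_ne_zero, hne _ _ c.ne_zero, ?_, ?_, hcomm _ _ hr1,
    hcomm _ _ hr2⟩
  · rw [hmul, hmul, add_comm 1, add_comm r1]
  · rw [hmul]
    refine hne _ _ fun h0 => hc (Units.ext ?_)
    rw [Units.val_one]
    exact (add_eq_zero' S h0).symm

end

/-! ### dihedral groups -/

theorem dihedral {G : Type*} [Group G] [Finite G] {x y : G} (hx : x * x = 1) (hy : y * y = 1) :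
    (∃ n : ℕ, (x * y) ^ n * x * ((x * y) ^ n)⁻¹ = y) ∨
    ∃ n : ℕ, (x * y) ^ n ≠ 1 ∧ (x * y) ^ n * (x * y) ^ n = 1 ∧ (x * y) ^ n * x = x * (x * y) ^ n ∧
      (x * y) ^ n * y = y * (x * y) ^ n := by
  set a := x * y with ha
  have hxi : x⁻¹ = x := inv_eq_of_mul_eq_one_left hx
  have hyi : y⁻¹ = y := inv_eq_of_mul_eq_one_left hy
  have h1 : x * a * x⁻¹ = a⁻¹ := by
    rw [ha, mul_inv_rev, hxi, hyi]
    calc x * (x * y) * x = (x * x) * y * x := by group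
      _ = y * x := by rw [hx, one_mul]
  have h2 : y * a * y⁻¹ = a⁻¹ := by
    rw [ha, mul_inv_rev, hxi, hyi]
    calc y * (x * y) * y = y * x * (y * y) := by group
      _ = y * x := by rw [hy, mul_one]
  have h1n : ∀ n : ℕ, x * a ^ n * x⁻¹ = (a ^ n)⁻¹ := fun n => by rw [← conj_pow, h1, inv_pow]
  have h2n : ∀ n : ℕ, y * a ^ n * y⁻¹ = (a ^ n)⁻¹ := fun n => by rw [← conj_pow, h2, inv_pow]
  rcases Nat.even_or_odd' (orderOf a) with ⟨n, hn | hn⟩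
  · right
    have hpos := orderOf_pos a
    have h3 : a ^ n * a ^ n = 1 := by rw [← pow_add, ← two_mul, ← hn, pow_orderOf_eq_one]
    have h4 : (a ^ n)⁻¹ = a ^ n := inv_eq_of_mul_eq_one_left h3
    refine ⟨n, fun h => ?_, h3, ?_, ?_⟩
    · have := Nat.le_of_dvd (by omega) (orderOf_dvd_of_pow_eq_one h)
      omega
    · have := h1n n
      rw [h4, mul_inv_eq_iff_eq_mul] at this
      exact this.symm
    · have := h2n n
      rw [h4, mul_inv_eq_iff_eq_mul] at this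
      exact this.symm
  · left
    refine ⟨n, ?_⟩
    have h3 : a ^ n * a ^ n * a = 1 := by rw [← pow_add, ← pow_succ, ← two_mul, ← hn, pow_orderOf_eq_one]
    have h4 : x * (a ^ n)⁻¹ = a ^ n * x := by
      have := h1n n
      have h5 : x * (a ^ n)⁻¹ * x⁻¹ = a ^ n := by
        calc x * (a ^ n)⁻¹ * x⁻¹ = (x * a ^ n * x⁻¹)⁻¹ := by group
          _ = a ^ n := by rw [this, inv_inv]
      rwa [mul_inv_eq_iff_eq_mul] at h5
    have h6 : a ^ n * a ^ n = a⁻¹ := eq_inv_of_mul_eq_one_left h3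
    calc a ^ n * x * (a ^ n)⁻¹ = a ^ n * (x * (a ^ n)⁻¹) := by group
      _ = (a ^ n * a ^ n) * x := by rw [h4]; group
      _ = y := by
        rw [h6, ha, mul_inv_rev, hxi, hyi, mul_assoc, hx, mul_one]

section

variable [Finite F] [Finite G] {K : Subgroup G}

/-- **the proper overgroups of `M` normalise `M`** -/
theorem Ov.le_norm (hK : Ov S K) (hF : ∃ c : Fˣ, c ≠ 1) (hR : S.R.p = 2) :
    K ≤ Subgroup.normalizer (MM S : Set G) := by
  intro g hg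
  by_contra hgN
  have hw : Db S (S.o 1 1 * S.o 2 1) := ⟨1, 1, one_ne_zero, one_ne_zero, rfl⟩
  have hz : Sg S (S.o 1 1) := ⟨1, 1, Or.inl rfl, one_ne_zero, rfl⟩
  have hwK : S.o 1 1 * S.o 2 1 ∈ K := hK.le (UO_le_MM S hw.mem)
  have hzK : g * S.o 1 1 * g⁻¹ ∈ K := mul_mem (mul_mem hg (hK.le (UO_le_MM S hz.mem))) (inv_mem hg)
  have hw2 : S.o 1 1 * S.o 2 1 * (S.o 1 1 * S.o 2 1) = 1 := by
    rw [o12_pU, pU_mul]
    simp only [map_zero, mul_zero, add_zero]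
    rw [char2 S, pU_zero]
  have hz2 : g * S.o 1 1 * g⁻¹ * (g * S.o 1 1 * g⁻¹) = 1 := by
    calc g * S.o 1 1 * g⁻¹ * (g * S.o 1 1 * g⁻¹) = g * (S.o 1 1 * S.o 1 1) * g⁻¹ := by group
      _ = 1 := by rw [o_sq S]; group
  have hgN' : g⁻¹ ∉ Subgroup.normalizer (MM S : Set G) := fun h => hgN (by
    have := inv_mem h
    rwa [inv_inv] at this)
  rcases dihedral hw2 hz2 with ⟨n, hn⟩ | ⟨n, hn1, hn2, hnx, hny⟩
  · set k := (S.o 1 1 * S.o 2 1 * (g * S.o 1 1 * g⁻¹)) ^ n with hk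
    have hkK : k ∈ K := pow_mem (mul_mem hwK hzK) n
    refine hK.not_fused hF hR (mul_mem (inv_mem hg) hkK) hz hw ?_
    calc g⁻¹ * k * (S.o 1 1 * S.o 2 1) * (g⁻¹ * k)⁻¹ = g⁻¹ * (k * (S.o 1 1 * S.o 2 1) * k⁻¹) * g := by group
      _ = S.o 1 1 := by rw [hn]; group
  · set i := (S.o 1 1 * S.o 2 1 * (g * S.o 1 1 * g⁻¹)) ^ n with hi
    have hiK : i ∈ K := pow_mem (mul_mem hwK hzK) n
    have hiN := hK.cent_Db hF hR hiK hw hnx
    set j := g⁻¹ * i * g with hj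
    have hjK : j ∈ K := mul_mem (mul_mem (inv_mem hg) hiK) hg
    have hjM : j ∈ MM S := by
      refine hK.cent_Sg hF hR hjK hz ?_
      calc g⁻¹ * i * g * S.o 1 1 = g⁻¹ * (i * (g * S.o 1 1 * g⁻¹)) * g := by group
        _ = S.o 1 1 * (g⁻¹ * i * g) := by rw [hny]; group
    have hj2 : j * j = 1 := by
      calc g⁻¹ * i * g * (g⁻¹ * i * g) = g⁻¹ * (i * i) * g := by group
        _ = 1 := by rw [hn2]; group
    have hj1 : j ≠ 1 := fun h => hn1 (by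
      have : i = g * (g⁻¹ * i * g) * g⁻¹ := by group
      rw [this, ← hj, h]; group)
    have hgj : g * j * g⁻¹ = i := by rw [hj]; group
    by_cases hiM : i ∈ MM S
    · exact hgN (hK.mem_norm hF hR hg hjM hj2 hj1 (by rw [hgj]; exact hiM))
    obtain ⟨x, hx, y, hy, hx2, hy2, hx1, hy1, hxy, hxy1, hix, hiy⟩ := hK.outer hF hR hiK hiN hiM hn2
    obtain ⟨m, hm, hc⟩ := inv_class hF hR hjM hj2 hj1
    -- the contradiction
    have bad : ∀ v ∈ MM S, v * v = 1 → v ≠ 1 → g⁻¹ * v * g ∈ MM S → False := fun v hv hv2 hv1 h =>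
      hgN' (hK.mem_norm hF hR (inv_mem hg) hv hv2 hv1 (by rwa [inv_inv]))
    have hcom : ∀ v, i * v = v * i → (m * (g⁻¹ * v * g) * m⁻¹) * (m * j * m⁻¹) = (m * j * m⁻¹) * (m * (g⁻¹ * v * g) * m⁻¹) := by
      intro v hv
      calc (m * (g⁻¹ * v * g) * m⁻¹) * (m * j * m⁻¹) = m * g⁻¹ * (v * i) * g * m⁻¹ := by rw [hj]; group
        _ = _ := by rw [← hv, hj]; group
    have hvK : ∀ v ∈ MM S, g⁻¹ * v * g ∈ K := fun v hv => mul_mem (mul_mem (inv_mem hg) (hK.le hv)) hg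
    have hmvK : ∀ v ∈ MM S, m * (g⁻¹ * v * g) * m⁻¹ ∈ K := fun v hv =>
      mul_mem (mul_mem (hK.le hm) (hvK v hv)) (inv_mem (hK.le hm))
    rcases hc with hc | hc
    · have h1 := hK.cent_Sg hF hR (hmvK x hx) hc (hcom x hix)
      refine bad x hx hx2 hx1 ?_
      have h2 := mul_mem (mul_mem (inv_mem hm) h1) hm
      have e : m⁻¹ * (m * (g⁻¹ * x * g) * m⁻¹) * m = g⁻¹ * x * g := by group
      rwa [e] at h2
    · have hN : ∀ v ∈ MM S, i * v = v * i → g⁻¹ * v * g ∈ Subgroup.normalizer (MM S : Set G) := by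
        intro v hv hiv
        have h1 := hK.cent_Db hF hR (hmvK v hv) hc (hcom v hiv)
        have h2 := mul_mem (mul_mem (inv_mem (MM_le_norm hm)) h1) (MM_le_norm hm)
        have e : m⁻¹ * (m * (g⁻¹ * v * g) * m⁻¹) * m = g⁻¹ * v * g := by group
        rwa [e] at h2
      by_cases h1 : g⁻¹ * x * g ∈ MM S
      · exact bad x hx hx2 hx1 h1
      by_cases h2 : g⁻¹ * y * g ∈ MM S
      · exact bad y hy hy2 hy1 h2
      have h3 := hK.prod hF hR (hvK x hx) (hvK y hy) (hN x hx hix) (hN y hy hiy) h1 h2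
      have e : g⁻¹ * x * g * (g⁻¹ * y * g) = g⁻¹ * (x * y) * g := by group
      rw [e] at h3
      refine bad (x * y) (mul_mem hx hy) ?_ hxy1 h3
      calc x * y * (x * y) = x * (y * x) * y := by group
        _ = (x * x) * (y * y) := by rw [← hxy]; group
        _ = 1 := by rw [hx2, hy2, one_mul]

theorem norm_MM_ne_top (hF : ∃ c : Fˣ, c ≠ 1) (hR : S.R.p = 2) : Subgroup.normalizer (MM S : Set G) ≠ ⊤ := by
  intro h
  have hK : Ov S (MM S) := ⟨le_rfl, MM_ne_top S hF hR⟩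
  have h1 : (S.e 3 1 0)⁻¹ ∈ Subgroup.normalizer (MM S : Set G) := by rw [h]; trivial
  have h2 := (Subgroup.mem_normalizer_iff.1 h1 _).1 (o_mem_MM S 1 1)
  rw [inv_inv, e3_o1] at h2
  have h3 := mul_mem (inv_mem (o_mem_MM S 1 1)) h2
  rw [inv_mul_cancel_left] at h3
  have h4 := (S.e_eq_one (hK.e_one hF h3)).2
  rw [one_mul] at h4
  exact one_ne_zero h4

theorem ov_norm (hF : ∃ c : Fˣ, c ≠ 1) (hR : S.R.p = 2) : Ov S (Subgroup.normalizer (MM S : Set G)) :=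
  ⟨MM_le_norm, norm_MM_ne_top hF hR⟩

/-- **`N(M)` is a maximal subgroup** -/
theorem coatom (hF : ∃ c : Fˣ, c ≠ 1) (hR : S.R.p = 2) : IsCoatom (Subgroup.normalizer (MM S : Set G)) := by
  refine ⟨norm_MM_ne_top hF hR, fun K hlt => ?_⟩
  by_contra hne
  have hK : Ov S K := ⟨MM_le_norm.trans hlt.le, hne⟩
  exact absurd (hK.le_norm hF hR) (not_le_of_gt hlt)

/-- every proper overgroup of `M` is in `N(M)` -/
theorem le_or_eq_top (hF : ∃ c : Fˣ, c ≠ 1) (hR : S.R.p = 2) {K : Subgroup G} (h : MM S ≤ K) :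
    K ≤ Subgroup.normalizer (MM S : Set G) ∨ K = ⊤ := by
  by_cases hK : K = ⊤
  · exact Or.inr hK
  · exact Or.inl (Ov.le_norm ⟨h, hK⟩ hF hR)

end

end Cfsg.Agent.H136.TwF
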